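import Mathlib
import Cfsg.Agent.Helper40.CoxTC

set_option autoImplicit false
set_option maxRecDepth 100000

namespace Cfsg.Agent.Helper40.TCData

open Cfsg.Agent.Helper40.TC

/-- Cartan matrix rows, type E7 -/
def cartanE7 : List (List ℤ) := [[2,0,-1,0,0,0,0],[0,2,0,-1,0,0,0],[-1,0,2,-1,0,0,0],[0,-1,-1,2,-1,0,0],[0,0,0,-1,2,-1,0],[0,0,0,0,-1,2,-1],[0,0,0,0,0,-1,2]]

/-- coset table, type E7, level 0 (2 cosets) -/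
def levE7_0 : Level := ⟨0, [[],[0]],
  [[(1,0,[0])],[(0,0,[1])]]⟩

/-- coset table, type E7, level 1 (2 cosets) -/
def levE7_1 : Level := ⟨1, [[],[1]],
  [[(0,0,[2]),(1,0,[0])],[(1,1,[4,0,1,0,2]),(0,0,[1])]]⟩

/-- coset table, type E7, level 2 (3 cosets) -/
def levE7_2 : Level := ⟨2, [[],[2],[2,0]],
  [[(0,0,[2]),(0,0,[2]),(1,0,[0])],[(2,0,[0]),(1,2,[4,1,2,0,2]),(0,0,[1])],[(1,0,[1]),(2,3,[4,0,1,1,1]),(2,1,[4,0,2,0,3])]]⟩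

/-- coset table, type E7, level 3 (10 cosets) -/
def levE7_3 : Level := ⟨3, [[],[3],[3,1],[3,2],[3,1,2],[3,2,0],[3,1,2,0],[3,1,2,3],[3,1,2,0,3],[3,1,2,0,3,2]],
  [[(0,0,[2]),(0,0,[2]),(0,0,[2]),(1,0,[0])],[(1,1,[4,0,3,0,2]),(2,0,[0]),(3,0,[0]),(0,0,[1])],[(2,4,[4,1,0,1,1]),(1,0,[1]),(4,0,[0]),(2,7,[4,1,3,0,3])],[(5,0,[0]),(4,6,[3]),(1,0,[1]),(3,10,[4,2,3,0,3])],[(6,0,[0]),(3,5,[4,1,2,1,2]),(2,0,[1]),(7,0,[0])],[(3,0,[1]),(6,15,[4,0,1,3,1]),(5,8,[4,2,0,1,2]),(5,13,[4,3,0,3,2])],[(4,0,[1]),(5,16,[3]),(6,9,[4,2,0,2,2]),(8,0,[0])],[(8,3,[3]),(7,14,[4,3,1,3,3]),(7,11,[4,2,3,2,2]),(4,0,[1])],[(7,2,[4,0,3,4,2]),(8,17,[4,0,1,7,1]),(9,0,[0]),(6,0,[1])],[(9,18,[4,0,2,7,2]),(9,19,[4,1,2,8,2]),(8,0,[1]),(9,12,[4,2,3,6,3])]]⟩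

/-- coset table, type E7, level 4 (16 cosets) -/
def levE7_4 : Level := ⟨4, [[],[4],[4,3],[4,3,1],[4,3,2],[4,3,1,2],[4,3,2,0],[4,3,1,2,0],[4,3,1,2,3],[4,3,1,2,0,3],[4,3,1,2,3,4],[4,3,1,2,0,3,2],[4,3,1,2,0,3,4],[4,3,1,2,0,3,2,4],[4,3,1,2,0,3,2,4,3],[4,3,1,2,0,3,2,4,3,1]],
  [[(0,0,[2]),(0,0,[2]),(0,0,[2]),(0,0,[2]),(1,0,[0])],[(1,3,[4,0,4,0,2]),(1,8,[4,1,4,0,2]),(1,9,[4,2,4,0,2]),(2,0,[0]),(0,0,[1])],[(2,12,[4,3,0,1,1]),(3,0,[0]),(4,0,[0]),(1,0,[1]),(2,16,[4,3,4,0,3])],[(3,22,[4,0,1,2,2]),(2,0,[1]),(5,0,[0]),(3,13,[4,3,1,1,2]),(3,17,[4,4,1,2,2])],[(6,0,[0]),(5,7,[3]),(2,0,[1]),(4,14,[4,3,2,1,2]),(4,18,[4,4,2,2,2])],[(7,0,[0]),(4,6,[4,1,2,2,2]),(3,0,[1]),(8,0,[0]),(5,19,[4,4,2,3,2])],[(4,0,[1]),(7,23,[4,0,1,4,1]),(6,25,[4,0,2,2,3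]),(6,29,[4,0,3,4,1]),(6,32,[4,0,4,4,1])],[(5,0,[1]),(6,24,[3]),(7,26,[4,0,2,3,3]),(9,0,[0]),(7,33,[4,0,4,5,1])],[(9,2,[3]),(8,35,[4,1,3,4,2]),(8,15,[4,3,2,3,3]),(5,0,[1]),(10,0,[0])],[(8,1,[4,0,3,5,2]),(9,36,[4,1,3,6,2]),(11,0,[0]),(7,0,[1]),(12,0,[0])],[(12,5,[3]),(10,37,[4,1,4,8,2]),(10,20,[4,4,2,8,1]),(10,21,[4,4,3,5,3]),(8,0,[1])],[(11,27,[4,0,2,8,2]),(11,39,[4,2,1,9,1]),(9,0,[1]),(11,41,[4,2,3,7,3]),(13,0,[0])],[(10,4,[4,0,4,8,2]),(12,38,[4,1,4,9,2]),(13,11,[3]),(12,30,[4,0,3,10,1]),(9,0,[1])],[(13,28,[4,0,2,10,2]),(13,40,[4,2,1,12,1]),(12,10,[4,2,4,9,2]),(14,0,[0]),(11,0,[1])],[(14,31,[4,0,3,13,2]),(15,0,[0]),(14,42,[4,2,3,12,2]),(13,0,[1]),(14,44,[4,3,4,11,3])],[(15,34,[4,1,0,14,1]),(14,0,[1]),(15,46,[4,1,2,14,1]),(15,43,[4,3,1,13,2]),(15,45,[4,4,1,14,2])]]⟩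

/-- coset table, type E7, level 5 (27 cosets) -/
def levE7_5 : Level := ⟨5, [[],[5],[5,4],[5,4,3],[5,4,3,1],[5,4,3,2],[5,4,3,1,2],[5,4,3,2,0],[5,4,3,1,2,0],[5,4,3,1,2,3],[5,4,3,1,2,0,3],[5,4,3,1,2,3,4],[5,4,3,1,2,0,3,2],[5,4,3,1,2,0,3,4],[5,4,3,1,2,3,4,5],[5,4,3,1,2,0,3,2,4],[5,4,3,1,2,0,3,4,5],[5,4,3,1,2,0,3,2,4,3],[5,4,3,1,2,0,3,2,4,5],[5,4,3,1,2,0,3,2,4,3,1],[5,4,3,1,2,0,3,2,4,3,5],[5,4,3,1,2,0,3,2,4,3,1,5],[5,4,3,1,2,0,3,2,4,3,5,4],[5,4,3,1,2,0,3,2,4,3,1,5,4],[5,4,3,1,2,0,3,2,4,3,1,5,4,3],[5,4,3,1,2,0,3,2,4,3,1,5,4,3,2],[5,4,3,1,2,0,3,2,4,3,1,5,4,3,2,0]],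
  [[(0,0,[2]),(0,0,[2]),(0,0,[2]),(0,0,[2]),(0,0,[2]),(1,0,[0])],[(1,5,[4,0,5,0,2]),(1,10,[4,1,5,0,2]),(1,15,[4,2,5,0,2]),(1,18,[4,3,5,0,2]),(2,0,[0]),(0,0,[1])],[(2,21,[4,4,0,1,1]),(2,22,[4,4,1,1,1]),(2,25,[4,4,2,1,1]),(3,0,[0]),(1,0,[1]),(2,27,[4,4,5,0,3])],[(3,31,[4,0,3,2,2]),(4,0,[0]),(5,0,[0]),(2,0,[1]),(3,26,[4,4,3,1,2]),(3,28,[4,5,3,2,2])],[(4,32,[4,1,0,3,1]),(3,0,[1]),(6,0,[0]),(4,33,[4,1,3,2,3]),(4,34,[4,1,4,3,1]),(4,35,[4,1,5,3,1])],[(7,0,[0]),(6,9,[3]),(3,0,[1]),(5,38,[4,2,3,2,3]),(5,41,[4,2,4,3,1]),(5,44,[4,2,5,3,1])],[(8,0,[0]),(5,8,[4,1,2,3,2]),(4,0,[1]),(9,0,[0]),(6,42,[4,2,4,4,1]),(6,45,[4,2,5,4,1])],[(5,0,[1]),(8,29,[4,0,1,5,1]),(7,36,[4,2,0,3,2]),(7,47,[4,3,0,5,2]),(7,54,[4,4,0,5,2]),(7,63,[4,5,0,5,2])],[(6,0,[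1]),(7,30,[3]),(8,37,[4,2,0,4,2]),(10,0,[0]),(8,55,[4,4,0,6,2]),(8,64,[4,5,0,6,2])],[(10,2,[3]),(9,48,[4,3,1,5,3]),(9,39,[4,2,3,4,2]),(6,0,[1]),(11,0,[0]),(9,52,[4,3,5,6,1])],[(9,1,[4,0,3,6,2]),(10,49,[4,3,1,7,3]),(12,0,[0]),(8,0,[1]),(13,0,[0]),(10,65,[4,5,0,9,2])],[(13,4,[3]),(11,56,[4,4,1,9,1]),(11,43,[4,2,4,9,2]),(11,50,[4,3,4,6,2]),(9,0,[1]),(14,0,[0])],[(12,73,[4,0,2,9,2]),(12,82,[4,1,2,10,2]),(10,0,[1]),(12,40,[4,2,3,8,3]),(15,0,[0]),(12,68,[4,5,2,10,2])],[(11,3,[4,0,4,9,2]),(13,57,[4,4,1,10,1]),(15,14,[3]),(13,59,[4,4,3,8,3]),(10,0,[1]),(16,0,[0])],[(16,7,[3]),(14,66,[4,5,1,11,1]),(14,46,[4,2,5,11,2]),(14,53,[4,3,5,11,2]),(14,60,[4,4,5,9,2]),(11,0,[1])],[(15,74,[4,0,2,11,2]),(15,83,[4,1,2,13,2]),(13,13,[4,2,4,10,2]),(17,0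,[0]),(12,0,[1]),(18,0,[0])],[(14,6,[4,0,5,11,2]),(16,67,[4,5,1,13,1]),(18,17,[3]),(16,69,[4,5,3,13,1]),(16,71,[4,5,4,10,3]),(13,0,[1])],[(17,76,[4,0,3,15,2]),(19,0,[0]),(17,87,[4,2,3,13,2]),(15,0,[1]),(17,51,[4,3,4,12,3]),(20,0,[0])],[(18,75,[4,0,2,14,2]),(18,84,[4,1,2,16,2]),(16,16,[4,2,5,13,2]),(20,20,[3]),(18,72,[4,5,4,12,3]),(15,0,[1])],[(19,79,[4,1,0,17,1]),(17,0,[1]),(19,98,[4,1,2,17,1]),(19,85,[4,1,3,15,3]),(19,58,[4,4,1,17,2]),(21,0,[0])],[(20,77,[4,0,3,18,2]),(21,12,[3]),(20,88,[4,2,3,16,2]),(18,19,[4,3,5,15,2]),(22,0,[0]),(17,0,[1])],[(21,80,[4,1,0,20,1]),(20,11,[4,1,5,17,2]),(21,99,[4,1,2,20,1]),(21,86,[4,1,3,18,3]),(23,0,[0]),(19,0,[1])],[(22,78,[4,0,4,20,2]),(23,23,[4,4,1,20,1]),(22,89,[4,2,4,20,2]),(22,92,[4,3,4,18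,2]),(20,0,[1]),(22,61,[4,4,5,17,3])],[(23,81,[4,1,0,22,1]),(22,24,[3]),(23,100,[4,1,2,22,1]),(24,0,[0]),(21,0,[1]),(23,62,[4,4,5,19,3])],[(24,91,[4,3,0,23,1]),(24,101,[4,1,3,22,2]),(25,0,[0]),(23,0,[1]),(24,93,[4,3,4,21,3]),(24,70,[4,5,3,23,2])],[(26,0,[0]),(25,102,[4,2,1,24,1]),(24,0,[1]),(25,103,[4,2,3,23,3]),(25,94,[4,4,2,24,2]),(25,90,[4,2,5,24,1])],[(25,0,[1]),(26,105,[4,0,1,25,1]),(26,96,[4,0,2,24,3]),(26,104,[4,3,0,25,2]),(26,97,[4,0,4,25,1]),(26,95,[4,5,0,25,2])]]⟩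

/-- coset table, type E7, level 6 (56 cosets) -/
def levE7_6 : Level := ⟨6, [[],[6],[6,5],[6,5,4],[6,5,4,3],[6,5,4,3,1],[6,5,4,3,2],[6,5,4,3,1,2],[6,5,4,3,2,0],[6,5,4,3,1,2,0],[6,5,4,3,1,2,3],[6,5,4,3,1,2,0,3],[6,5,4,3,1,2,3,4],[6,5,4,3,1,2,0,3,2],[6,5,4,3,1,2,0,3,4],[6,5,4,3,1,2,3,4,5],[6,5,4,3,1,2,0,3,2,4],[6,5,4,3,1,2,0,3,4,5],[6,5,4,3,1,2,3,4,5,6],[6,5,4,3,1,2,0,3,2,4,3],[6,5,4,3,1,2,0,3,2,4,5],[6,5,4,3,1,2,0,3,4,5,6],[6,5,4,3,1,2,0,3,2,4,3,1],[6,5,4,3,1,2,0,3,2,4,3,5],[6,5,4,3,1,2,0,3,2,4,5,6],[6,5,4,3,1,2,0,3,2,4,3,1,5],[6,5,4,3,1,2,0,3,2,4,3,5,4],[6,5,4,3,1,2,0,3,2,4,3,5,6],[6,5,4,3,1,2,0,3,2,4,3,1,5,4],[6,5,4,3,1,2,0,3,2,4,3,1,5,6],[6,5,4,3,1,2,0,3,2,4,3,5,4,6],[6,5,4,3,1,2,0,3,2,4,3,1,5,4,3],[6,5,4,3,1,2,0,3,2,4,3,1,5,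4,6],[6,5,4,3,1,2,0,3,2,4,3,5,4,6,5],[6,5,4,3,1,2,0,3,2,4,3,1,5,4,3,2],[6,5,4,3,1,2,0,3,2,4,3,1,5,4,3,6],[6,5,4,3,1,2,0,3,2,4,3,1,5,4,6,5],[6,5,4,3,1,2,0,3,2,4,3,1,5,4,3,2,0],[6,5,4,3,1,2,0,3,2,4,3,1,5,4,3,2,6],[6,5,4,3,1,2,0,3,2,4,3,1,5,4,3,6,5],[6,5,4,3,1,2,0,3,2,4,3,1,5,4,3,2,0,6],[6,5,4,3,1,2,0,3,2,4,3,1,5,4,3,2,6,5],[6,5,4,3,1,2,0,3,2,4,3,1,5,4,3,6,5,4],[6,5,4,3,1,2,0,3,2,4,3,1,5,4,3,2,0,6,5],[6,5,4,3,1,2,0,3,2,4,3,1,5,4,3,2,6,5,4],[6,5,4,3,1,2,0,3,2,4,3,1,5,4,3,2,0,6,5,4],[6,5,4,3,1,2,0,3,2,4,3,1,5,4,3,2,6,5,4,3],[6,5,4,3,1,2,0,3,2,4,3,1,5,4,3,2,0,6,5,4,3],[6,5,4,3,1,2,0,3,2,4,3,1,5,4,3,2,6,5,4,3,1],[6,5,4,3,1,2,0,3,2,4,3,1,5,4,3,2,0,6,5,4,3,1],[6,5,4,3,1,2,0,3,2,4,3,1,5,4,3,2,0,6,5,4,3,2],[6,5,4,3,1,2,0,3,2,4,3,1,5,4,3,2,0,6,5,4,3,1,2],[6,5,4,3,1,2,0,3,2,4,3,1,5,4,3,2,0,6,5,4,3,1,2,3],[6,5,4,3,1,2,0,3,2,4,3,1,5,4,3,2,0,6,5,4,3,1,2,3,4],[6,5,4,3,1,2,0,3,2,4,3,1,5,4,3,2,0,6,5,4,3,1,2,3,4,5],[6,5,4,3,1,2,0,3,2,4,3,1,5,4,3,2,0,6,5,4,3,1,2,3,4,5,6]],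
  [[(0,0,[2]),(0,0,[2]),(0,0,[2]),(0,0,[2]),(0,0,[2]),(0,0,[2]),(1,0,[0])],[(1,7,[4,0,6,0,2]),(1,18,[4,1,6,0,2]),(1,25,[4,2,6,0,2]),(1,32,[4,3,6,0,2]),(1,39,[4,4,6,0,2]),(2,0,[0]),(0,0,[1])],[(2,44,[4,5,0,1,1]),(2,47,[4,5,1,1,1]),(2,48,[4,5,2,1,1]),(2,51,[4,5,3,1,1]),(3,0,[0]),(1,0,[1]),(2,55,[4,5,6,0,3])],[(3,61,[4,0,4,2,2]),(3,64,[4,1,4,2,2]),(3,67,[4,2,4,2,2]),(4,0,[0]),(2,0,[1]),(3,54,[4,5,4,1,2]),(3,58,[4,6,4,2,2])],[(4,70,[4,3,0,3,1]),(5,0,[0]),(6,0,[0]),(3,0,[1]),(4,76,[4,3,4,2,3]),(4,77,[4,3,5,3,1]),(4,78,[4,3,6,3,1])],[(5,100,[4,0,1,4,2]),(4,0,[1]),(7,0,[0]),(5,73,[4,3,1,3,2]),(5,79,[4,4,1,4,2]),(5,84,[4,5,1,4,2]),(5,91,[4,6,1,4,2])],[(8,0,[0]),(7,13,[3]),(4,0,[1]),(6,74,[4,3,2,3,2]),(6,80,[4,4,2,4,2]),(6,85,[4,5,2,4,2]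),(6,92,[4,6,2,4,2])],[(9,0,[0]),(6,12,[4,1,2,4,2]),(5,0,[1]),(10,0,[0]),(7,81,[4,4,2,5,2]),(7,86,[4,5,2,5,2]),(7,93,[4,6,2,5,2])],[(6,0,[1]),(9,59,[4,0,1,6,1]),(8,103,[4,0,2,4,3]),(8,109,[4,0,3,6,1]),(8,116,[4,0,4,6,1]),(8,122,[4,0,5,6,1]),(8,127,[4,0,6,6,1])],[(7,0,[1]),(8,60,[3]),(9,104,[4,0,2,5,3]),(11,0,[0]),(9,117,[4,0,4,7,1]),(9,123,[4,0,5,7,1]),(9,128,[4,0,6,7,1])],[(11,2,[3]),(10,137,[4,1,3,6,2]),(10,75,[4,3,2,5,3]),(7,0,[1]),(12,0,[0]),(10,88,[4,5,3,7,2]),(10,95,[4,6,3,7,2])],[(10,1,[4,0,3,7,2]),(11,138,[4,1,3,8,2]),(13,0,[0]),(9,0,[1]),(14,0,[0]),(11,124,[4,0,5,10,1]),(11,129,[4,0,6,10,1])],[(14,4,[3]),(12,139,[4,1,4,10,2]),(12,82,[4,4,2,10,1]),(12,83,[4,4,3,7,3]),(10,0,[1]),(15,0,[0]),(12,97,[4,6,4,10,2])],[(13,105,[4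,0,2,10,2]),(13,145,[4,2,1,11,1]),(11,0,[1]),(13,149,[4,2,3,9,3]),(16,0,[0]),(13,157,[4,2,5,11,1]),(13,160,[4,2,6,11,1])],[(12,3,[4,0,4,10,2]),(14,140,[4,1,4,11,2]),(16,22,[3]),(14,110,[4,0,3,12,1]),(11,0,[1]),(17,0,[0]),(14,130,[4,0,6,12,1])],[(17,6,[3]),(15,141,[4,1,5,12,2]),(15,87,[4,5,2,12,1]),(15,89,[4,5,3,12,1]),(15,90,[4,5,4,10,3]),(12,0,[1]),(18,0,[0])],[(16,106,[4,0,2,12,2]),(16,146,[4,2,1,14,1]),(14,21,[4,2,4,11,2]),(19,0,[0]),(13,0,[1]),(20,0,[0]),(16,161,[4,2,6,14,1])],[(15,5,[4,0,5,12,2]),(17,142,[4,1,5,14,2]),(20,24,[3]),(17,111,[4,0,3,15,1]),(17,118,[4,0,4,15,1]),(14,0,[1]),(21,0,[0])],[(21,9,[3]),(18,143,[4,1,6,15,2]),(18,94,[4,6,2,15,1]),(18,96,[4,6,3,15,1]),(18,98,[4,6,4,15,1]),(18,99,[4,6,5,12,3]),(15,0,[1])],[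(19,112,[4,0,3,16,2]),(22,0,[0]),(19,150,[4,2,3,14,2]),(16,0,[1]),(19,168,[4,3,4,13,3]),(23,0,[0]),(19,175,[4,3,6,16,1])],[(20,107,[4,0,2,15,2]),(20,147,[4,2,1,17,1]),(17,23,[4,2,5,14,2]),(23,31,[3]),(20,153,[4,2,4,17,1]),(16,0,[1]),(24,0,[0])],[(18,8,[4,0,6,15,2]),(21,144,[4,1,6,17,2]),(24,27,[3]),(21,113,[4,0,3,18,1]),(21,119,[4,0,4,18,1]),(21,125,[4,0,5,18,1]),(17,0,[1])],[(22,131,[4,1,0,19,1]),(19,0,[1]),(22,208,[4,1,2,19,1]),(22,165,[4,3,1,16,2]),(22,177,[4,4,1,19,2]),(25,0,[0]),(22,192,[4,5,6,22,5])],[(23,114,[4,0,3,20,2]),(25,17,[3]),(23,151,[4,2,3,17,2]),(20,30,[4,3,5,16,2]),(26,0,[0]),(19,0,[1]),(27,0,[0])],[(24,108,[4,0,2,18,2]),(24,148,[4,2,1,21,1]),(21,26,[4,2,6,17,2]),(27,34,[3]),(24,154,[4,2,4,21,1]),(24,158,[4,2,5,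21,1]),(20,0,[1])],[(25,132,[4,1,0,23,1]),(23,16,[4,1,5,19,2]),(25,209,[4,1,2,23,1]),(25,166,[4,3,1,20,2]),(28,0,[0]),(22,0,[1]),(29,0,[0])],[(26,120,[4,0,4,23,2]),(28,37,[4,4,1,23,1]),(26,155,[4,2,4,23,2]),(26,169,[4,3,4,20,2]),(23,0,[1]),(26,180,[4,4,5,19,3]),(30,0,[0])],[(27,115,[4,0,3,24,2]),(29,20,[3]),(27,152,[4,2,3,21,2]),(24,33,[4,3,6,20,2]),(30,41,[3]),(27,173,[4,3,5,24,1]),(23,0,[1])],[(28,133,[4,1,0,26,1]),(26,38,[3]),(28,210,[4,1,2,26,1]),(31,0,[0]),(25,0,[1]),(28,181,[4,4,5,22,3]),(32,0,[0])],[(29,134,[4,1,0,27,1]),(27,19,[4,1,6,23,2]),(29,211,[4,1,2,27,1]),(29,167,[4,3,1,24,2]),(32,43,[3]),(29,186,[4,5,1,27,2]),(25,0,[1])],[(30,121,[4,0,4,27,2]),(32,56,[4,6,1,26,1]),(30,156,[4,2,4,27,2]),(30,170,[4,3,4,24,2]),(27,40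,[4,4,6,23,2]),(33,0,[0]),(26,0,[1])],[(31,162,[4,3,0,28,1]),(31,214,[4,1,3,26,2]),(34,0,[0]),(28,0,[1]),(31,171,[4,3,4,25,3]),(31,187,[4,5,3,28,2]),(35,0,[0])],[(32,135,[4,1,0,30,1]),(30,57,[3]),(32,212,[4,1,2,30,1]),(35,36,[3]),(29,42,[4,4,6,25,2]),(36,0,[0]),(28,0,[1])],[(33,126,[4,0,5,30,2]),(36,66,[3]),(33,159,[4,2,5,30,2]),(33,174,[4,3,5,30,2]),(33,182,[4,4,5,27,2]),(30,0,[1]),(33,193,[4,5,6,26,3])],[(37,0,[0]),(34,220,[4,2,1,31,1]),(31,0,[1]),(34,224,[4,2,3,28,3]),(34,178,[4,4,2,31,2]),(34,200,[4,6,5,34,5]),(38,0,[0])],[(35,163,[4,3,0,32,1]),(35,215,[4,1,3,30,2]),(38,29,[3]),(32,35,[4,3,6,28,2]),(35,172,[4,3,4,29,3]),(39,0,[0]),(31,0,[1])],[(36,136,[4,1,0,33,1]),(33,65,[4,1,5,30,2]),(36,213,[4,1,2,33,1]),(39,52,[4,5,3,32,1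]),(36,190,[4,5,4,29,3]),(32,0,[1]),(36,194,[4,5,6,28,3])],[(34,0,[1]),(37,260,[4,0,1,34,1]),(37,201,[4,0,2,31,3]),(37,230,[4,3,0,34,2]),(37,197,[4,6,4,37,3]),(37,205,[4,0,5,34,1]),(40,0,[0])],[(40,11,[3]),(38,221,[4,2,1,35,1]),(35,28,[4,2,6,31,2]),(38,225,[4,2,3,32,3]),(38,179,[4,4,2,35,2]),(41,0,[0]),(34,0,[1])],[(39,164,[4,3,0,36,1]),(39,216,[4,1,3,33,2]),(41,49,[4,5,2,35,1]),(36,53,[3]),(42,0,[0]),(35,0,[1]),(39,195,[4,5,6,31,3])],[(38,10,[4,0,6,34,2]),(40,261,[4,0,1,38,1]),(40,202,[4,0,2,35,3]),(40,231,[4,3,0,38,2]),(40,191,[4,5,4,40,5]),(43,0,[0]),(37,0,[1])],[(43,45,[4,5,0,38,1]),(41,222,[4,2,1,39,1]),(39,50,[3]),(41,226,[4,2,3,36,3]),(44,0,[0]),(38,0,[1]),(41,196,[4,6,2,39,2])],[(42,176,[4,4,0,39,1]),(42,217,[4,1,4,39,2])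,(44,69,[3]),(42,235,[4,3,4,36,2]),(39,0,[1]),(42,183,[4,4,5,35,3]),(42,198,[4,6,4,39,2])],[(41,46,[3]),(43,262,[4,0,1,41,1]),(43,203,[4,0,2,39,3]),(43,232,[4,3,0,41,2]),(45,0,[0]),(40,0,[1]),(43,206,[4,0,6,41,1])],[(45,63,[3]),(44,223,[4,2,1,42,1]),(42,68,[4,2,4,39,2]),(46,0,[0]),(41,0,[1]),(44,184,[4,4,5,38,3]),(44,199,[4,6,4,41,2])],[(44,62,[4,0,4,41,2]),(45,263,[4,0,1,44,1]),(45,204,[4,0,2,42,3]),(47,0,[0]),(43,0,[1]),(45,185,[4,5,0,44,2]),(45,207,[4,0,6,44,1])],[(47,71,[4,3,0,44,1]),(48,0,[0]),(46,265,[4,2,3,42,2]),(44,0,[1]),(46,236,[4,3,4,41,3]),(46,188,[4,5,3,44,2]),(46,239,[4,3,6,44,1])],[(46,72,[3]),(49,0,[0]),(50,0,[0]),(45,0,[1]),(47,237,[4,3,4,43,3]),(47,189,[4,5,3,45,2]),(47,240,[4,3,6,45,1])],[(49,102,[3]),(46,0,[1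]),(48,272,[4,1,2,46,1]),(48,233,[4,3,1,44,2]),(48,241,[4,4,1,46,2]),(48,218,[4,1,5,46,1]),(48,251,[4,6,1,46,2])],[(48,101,[4,0,1,46,2]),(47,0,[1]),(51,0,[0]),(49,264,[4,0,3,48,1]),(49,242,[4,4,1,47,2]),(49,219,[4,1,5,47,1]),(49,252,[4,6,1,47,2])],[(50,270,[4,0,2,46,2]),(51,15,[3]),(47,0,[1]),(50,227,[4,2,3,45,3]),(50,244,[4,4,2,47,2]),(50,228,[4,2,5,47,1]),(50,254,[4,6,2,47,2])],[(51,271,[4,1,0,50,1]),(50,14,[4,1,2,47,2]),(49,0,[1]),(52,0,[0]),(51,245,[4,4,2,49,2]),(51,229,[4,2,5,49,1]),(51,255,[4,6,2,49,2])],[(52,273,[4,3,0,51,1]),(52,234,[4,3,1,50,3]),(52,266,[4,2,3,49,2]),(51,0,[1]),(53,0,[0]),(52,238,[4,3,5,51,1]),(52,256,[4,6,3,51,2])],[(53,274,[4,4,0,52,1]),(53,243,[4,4,1,52,1]),(53,267,[4,2,4,52,2]),(53,246,[4,4,3,51,3]),(52,0,[1]),(54,0,[0]),(53,258,[4,6,4,52,2])],[(54,275,[4,5,0,53,1]),(54,249,[4,5,1,53,1]),(54,268,[4,2,5,53,2]),(54,250,[4,5,3,53,1]),(54,247,[4,4,5,52,2]),(53,0,[1]),(55,0,[0])],[(55,276,[4,6,0,54,1]),(55,253,[4,6,1,54,1]),(55,269,[4,2,6,54,2]),(55,257,[4,6,3,54,1]),(55,248,[4,4,6,54,2]),(55,259,[4,6,5,53,3]),(54,0,[1])]]⟩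

/-- the levels of type E7 -/
def levE7 : ℕ → Level := fun k => [levE7_0,levE7_1,levE7_2,levE7_3,levE7_4,levE7_5,levE7_6].getD k ⟨0, [], []⟩

theorem cartanOK_E7 : cartanOK CoxeterMatrix.E₇ cartanE7 = true := by decide +kernel

theorem levOK_E7_0 : LevOK CoxeterMatrix.E₇ cartanE7 levE7 0 :=
  ⟨rfl, by decide +kernel, by decide +kernel⟩

theorem levOK_E7_1 : LevOK CoxeterMatrix.E₇ cartanE7 levE7 1 :=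
  ⟨rfl, by decide +kernel, by decide +kernel⟩

theorem levOK_E7_2 : LevOK CoxeterMatrix.E₇ cartanE7 levE7 2 :=
  ⟨rfl, by decide +kernel, by decide +kernel⟩

theorem levOK_E7_3 : LevOK CoxeterMatrix.E₇ cartanE7 levE7 3 :=
  ⟨rfl, by decide +kernel, by decide +kernel⟩

theorem levOK_E7_4 : LevOK CoxeterMatrix.E₇ cartanE7 levE7 4 :=
  ⟨rfl, by decide +kernel, by decide +kernel⟩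

theorem levOK_E7_5 : LevOK CoxeterMatrix.E₇ cartanE7 levE7 5 :=
  ⟨rfl, by decide +kernel, by decide +kernel⟩

theorem levOK_E7_6 : LevOK CoxeterMatrix.E₇ cartanE7 levE7 6 :=
  ⟨rfl, by decide +kernel, by decide +kernel⟩

theorem levOK_E7 : ∀ k, k < 7 → LevOK CoxeterMatrix.E₇ cartanE7 levE7 k := by
  intro k hk
  interval_cases k
  · exact levOK_E7_0
  · exact levOK_E7_1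
  · exact levOK_E7_2
  · exact levOK_E7_3
  · exact levOK_E7_4
  · exact levOK_E7_5
  · exact levOK_E7_6

theorem card_E7 : Nat.card CoxeterMatrix.E₇.Group = 2903040 := by
  rw [card_group CoxeterMatrix.E₇ cartanE7 levE7 cartanOK_E7 levOK_E7]
  decide +kernel

end Cfsg.Agent.Helper40.TCData
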