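import Mathlib
import Cfsg.Agent.Helper40.CoxTC

set_option autoImplicit false
set_option maxRecDepth 100000

namespace Cfsg.Agent.Helper40.TCData

open Cfsg.Agent.Helper40.TC

/-- Cartan matrix rows, type B2 -/
def cartanB2 : List (List ℤ) := [[2,-2],[-1,2]]

/-- coset table, type B2, level 0 (2 cosets) -/
def levB2_0 : Level := ⟨0, [[],[0]],
  [[(1,0,[0])],[(0,0,[1])]]⟩

/-- coset table, type B2, level 1 (4 cosets) -/
def levB2_1 : Level := ⟨1, [[],[1],[1,0],[1,0,1]],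
  [[(0,0,[2]),(1,0,[0])],[(2,0,[0]),(0,0,[1])],[(1,0,[1]),(3,0,[0])],[(3,1,[4,0,1,0,4]),(2,0,[1])]]⟩

/-- the levels of type B2 -/
def levB2 : ℕ → Level := fun k => [levB2_0,levB2_1].getD k ⟨0, [], []⟩

theorem cartanOK_B2 : cartanOK (CoxeterMatrix.B 2) cartanB2 = true := by decide +kernel

theorem levOK_B2_0 : LevOK (CoxeterMatrix.B 2) cartanB2 levB2 0 :=
  ⟨rfl, by decide +kernel, by decide +kernel⟩

theorem levOK_B2_1 : LevOK (CoxeterMatrix.B 2) cartanB2 levB2 1 :=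
  ⟨rfl, by decide +kernel, by decide +kernel⟩

theorem levOK_B2 : ∀ k, k < 2 → LevOK (CoxeterMatrix.B 2) cartanB2 levB2 k := by
  intro k hk
  interval_cases k
  · exact levOK_B2_0
  · exact levOK_B2_1

theorem card_B2 : Nat.card (CoxeterMatrix.B 2).Group = 8 := by
  rw [card_group (CoxeterMatrix.B 2) cartanB2 levB2 cartanOK_B2 levOK_B2]
  decide +kernel

end Cfsg.Agent.Helper40.TCData
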