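import Mathlib
import Cfsg.Prelude.Def_ChevStructure
import Cfsg.Agent.Helper40.CoxTC

set_option autoImplicit false
set_option maxRecDepth 100000

namespace Cfsg.Agent.Helper40.TCData

open Cfsg.Agent.Helper40.TC

/-- Cartan matrix rows, type D4 -/
def cartanD4 : List (List ℤ) := [[2,-1,0,0],[-1,2,-1,-1],[0,-1,2,0],[0,-1,0,2]]

/-- coset table, type D4, level 0 (2 cosets) -/
def levD4_0 : Level := ⟨0, [[],[0]],
  [[(1,0,[0])],[(0,0,[1])]]⟩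

/-- coset table, type D4, level 1 (3 cosets) -/
def levD4_1 : Level := ⟨1, [[],[1],[1,0]],
  [[(0,0,[2]),(1,0,[0])],[(2,0,[0]),(0,0,[1])],[(1,0,[1]),(2,1,[4,0,1,0,3])]]⟩

/-- coset table, type D4, level 2 (4 cosets) -/
def levD4_2 : Level := ⟨2, [[],[2],[2,1],[2,1,0]],
  [[(0,0,[2]),(0,0,[2]),(1,0,[0])],[(1,1,[4,0,2,0,2]),(2,0,[0]),(0,0,[1])],[(3,0,[0]),(1,0,[1]),(2,3,[4,1,2,0,3])],[(2,0,[1]),(3,2,[4,1,0,1,2]),(3,4,[4,2,0,2,2])]]⟩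

/-- coset table, type D4, level 3 (8 cosets) -/
def levD4_3 : Level := ⟨3, [[],[3],[3,1],[3,1,0],[3,1,2],[3,1,0,2],[3,1,0,2,1],[3,1,0,2,1,3]],
  [[(0,0,[2]),(0,0,[2]),(0,0,[2]),(1,0,[0])],[(1,3,[4,0,3,0,2]),(2,0,[0]),(1,7,[4,2,3,0,2]),(0,0,[1])],[(3,0,[0]),(1,0,[1]),(4,0,[0]),(2,6,[4,1,3,0,3])],[(2,0,[1]),(3,4,[4,1,0,1,2]),(5,0,[0]),(3,10,[4,3,0,2,2])],[(5,2,[3]),(4,13,[4,1,2,1,2]),(2,0,[1]),(4,8,[4,2,3,2,1])],[(4,1,[4,0,2,2,2]),(6,0,[0]),(3,0,[1]),(5,11,[4,3,0,4,2])],[(6,14,[4,0,1,4,2]),(5,0,[1]),(6,5,[4,1,2,3,3]),(7,0,[0])],[(7,15,[4,0,3,6,2]),(7,12,[4,3,1,5,3]),(7,9,[4,2,3,6,2]),(6,0,[1])]]⟩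

/-- the levels of type D4 -/
def levD4 : ℕ → Level := fun k => [levD4_0,levD4_1,levD4_2,levD4_3].getD k ⟨0, [], []⟩

theorem cartanOK_D4 : cartanOK Cfsg.Lie.coxeterD4 cartanD4 = true := by decide +kernel

theorem levOK_D4_0 : LevOK Cfsg.Lie.coxeterD4 cartanD4 levD4 0 :=
  ⟨rfl, by decide +kernel, by decide +kernel⟩

theorem levOK_D4_1 : LevOK Cfsg.Lie.coxeterD4 cartanD4 levD4 1 :=
  ⟨rfl, by decide +kernel, by decide +kernel⟩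

theorem levOK_D4_2 : LevOK Cfsg.Lie.coxeterD4 cartanD4 levD4 2 :=
  ⟨rfl, by decide +kernel, by decide +kernel⟩

theorem levOK_D4_3 : LevOK Cfsg.Lie.coxeterD4 cartanD4 levD4 3 :=
  ⟨rfl, by decide +kernel, by decide +kernel⟩

theorem levOK_D4 : ∀ k, k < 4 → LevOK Cfsg.Lie.coxeterD4 cartanD4 levD4 k := by
  intro k hk
  interval_cases k
  · exact levOK_D4_0
  · exact levOK_D4_1
  · exact levOK_D4_2
  · exact levOK_D4_3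

theorem card_D4 : Nat.card Cfsg.Lie.coxeterD4.Group = 192 := by
  rw [card_group Cfsg.Lie.coxeterD4 cartanD4 levD4 cartanOK_D4 levOK_D4]
  decide +kernel

end Cfsg.Agent.Helper40.TCData
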