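import Mathlib
import Cfsg.Agent.Helper40.CoxTC

set_option autoImplicit false
set_option maxRecDepth 100000

namespace Cfsg.Agent.Helper40.TCData

open Cfsg.Agent.Helper40.TC

/-- Cartan matrix rows, type E6 -/
def cartanE6 : List (List ℤ) := [[2,0,-1,0,0,0],[0,2,0,-1,0,0],[-1,0,2,-1,0,0],[0,-1,-1,2,-1,0],[0,0,0,-1,2,-1],[0,0,0,0,-1,2]]

/-- coset table, type E6, level 0 (2 cosets) -/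
def levE6_0 : Level := ⟨0, [[],[0]],
  [[(1,0,[0])],[(0,0,[1])]]⟩

/-- coset table, type E6, level 1 (2 cosets) -/
def levE6_1 : Level := ⟨1, [[],[1]],
  [[(0,0,[2]),(1,0,[0])],[(1,1,[4,0,1,0,2]),(0,0,[1])]]⟩

/-- coset table, type E6, level 2 (3 cosets) -/
def levE6_2 : Level := ⟨2, [[],[2],[2,0]],
  [[(0,0,[2]),(0,0,[2]),(1,0,[0])],[(2,0,[0]),(1,2,[4,1,2,0,2]),(0,0,[1])],[(1,0,[1]),(2,3,[4,0,1,1,1]),(2,1,[4,0,2,0,3])]]⟩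

/-- coset table, type E6, level 3 (10 cosets) -/
def levE6_3 : Level := ⟨3, [[],[3],[3,1],[3,2],[3,1,2],[3,2,0],[3,1,2,0],[3,1,2,3],[3,1,2,0,3],[3,1,2,0,3,2]],
  [[(0,0,[2]),(0,0,[2]),(0,0,[2]),(1,0,[0])],[(1,1,[4,0,3,0,2]),(2,0,[0]),(3,0,[0]),(0,0,[1])],[(2,4,[4,1,0,1,1]),(1,0,[1]),(4,0,[0]),(2,7,[4,1,3,0,3])],[(5,0,[0]),(4,6,[3]),(1,0,[1]),(3,10,[4,2,3,0,3])],[(6,0,[0]),(3,5,[4,1,2,1,2]),(2,0,[1]),(7,0,[0])],[(3,0,[1]),(6,15,[4,0,1,3,1]),(5,8,[4,2,0,1,2]),(5,13,[4,3,0,3,2])],[(4,0,[1]),(5,16,[3]),(6,9,[4,2,0,2,2]),(8,0,[0])],[(8,3,[3]),(7,14,[4,3,1,3,3]),(7,11,[4,2,3,2,2]),(4,0,[1])],[(7,2,[4,0,3,4,2]),(8,17,[4,0,1,7,1]),(9,0,[0]),(6,0,[1])],[(9,18,[4,0,2,7,2]),(9,19,[4,1,2,8,2]),(8,0,[1]),(9,12,[4,2,3,6,3])]]⟩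

/-- coset table, type E6, level 4 (16 cosets) -/
def levE6_4 : Level := ⟨4, [[],[4],[4,3],[4,3,1],[4,3,2],[4,3,1,2],[4,3,2,0],[4,3,1,2,0],[4,3,1,2,3],[4,3,1,2,0,3],[4,3,1,2,3,4],[4,3,1,2,0,3,2],[4,3,1,2,0,3,4],[4,3,1,2,0,3,2,4],[4,3,1,2,0,3,2,4,3],[4,3,1,2,0,3,2,4,3,1]],
  [[(0,0,[2]),(0,0,[2]),(0,0,[2]),(0,0,[2]),(1,0,[0])],[(1,3,[4,0,4,0,2]),(1,8,[4,1,4,0,2]),(1,9,[4,2,4,0,2]),(2,0,[0]),(0,0,[1])],[(2,12,[4,3,0,1,1]),(3,0,[0]),(4,0,[0]),(1,0,[1]),(2,16,[4,3,4,0,3])],[(3,22,[4,0,1,2,2]),(2,0,[1]),(5,0,[0]),(3,13,[4,3,1,1,2]),(3,17,[4,4,1,2,2])],[(6,0,[0]),(5,7,[3]),(2,0,[1]),(4,14,[4,3,2,1,2]),(4,18,[4,4,2,2,2])],[(7,0,[0]),(4,6,[4,1,2,2,2]),(3,0,[1]),(8,0,[0]),(5,19,[4,4,2,3,2])],[(4,0,[1]),(7,23,[4,0,1,4,1]),(6,25,[4,0,2,2,3]),(6,29,[4,0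,3,4,1]),(6,32,[4,0,4,4,1])],[(5,0,[1]),(6,24,[3]),(7,26,[4,0,2,3,3]),(9,0,[0]),(7,33,[4,0,4,5,1])],[(9,2,[3]),(8,35,[4,1,3,4,2]),(8,15,[4,3,2,3,3]),(5,0,[1]),(10,0,[0])],[(8,1,[4,0,3,5,2]),(9,36,[4,1,3,6,2]),(11,0,[0]),(7,0,[1]),(12,0,[0])],[(12,5,[3]),(10,37,[4,1,4,8,2]),(10,20,[4,4,2,8,1]),(10,21,[4,4,3,5,3]),(8,0,[1])],[(11,27,[4,0,2,8,2]),(11,39,[4,2,1,9,1]),(9,0,[1]),(11,41,[4,2,3,7,3]),(13,0,[0])],[(10,4,[4,0,4,8,2]),(12,38,[4,1,4,9,2]),(13,11,[3]),(12,30,[4,0,3,10,1]),(9,0,[1])],[(13,28,[4,0,2,10,2]),(13,40,[4,2,1,12,1]),(12,10,[4,2,4,9,2]),(14,0,[0]),(11,0,[1])],[(14,31,[4,0,3,13,2]),(15,0,[0]),(14,42,[4,2,3,12,2]),(13,0,[1]),(14,44,[4,3,4,11,3])],[(15,34,[4,1,0,14,1]),(14,0,[1]),(15,46,[4,1,2,14,1]),(15,43,[4,3,1,13,2]),(15,45,[4,4,1,14,2])]]⟩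

/-- coset table, type E6, level 5 (27 cosets) -/
def levE6_5 : Level := ⟨5, [[],[5],[5,4],[5,4,3],[5,4,3,1],[5,4,3,2],[5,4,3,1,2],[5,4,3,2,0],[5,4,3,1,2,0],[5,4,3,1,2,3],[5,4,3,1,2,0,3],[5,4,3,1,2,3,4],[5,4,3,1,2,0,3,2],[5,4,3,1,2,0,3,4],[5,4,3,1,2,3,4,5],[5,4,3,1,2,0,3,2,4],[5,4,3,1,2,0,3,4,5],[5,4,3,1,2,0,3,2,4,3],[5,4,3,1,2,0,3,2,4,5],[5,4,3,1,2,0,3,2,4,3,1],[5,4,3,1,2,0,3,2,4,3,5],[5,4,3,1,2,0,3,2,4,3,1,5],[5,4,3,1,2,0,3,2,4,3,5,4],[5,4,3,1,2,0,3,2,4,3,1,5,4],[5,4,3,1,2,0,3,2,4,3,1,5,4,3],[5,4,3,1,2,0,3,2,4,3,1,5,4,3,2],[5,4,3,1,2,0,3,2,4,3,1,5,4,3,2,0]],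
  [[(0,0,[2]),(0,0,[2]),(0,0,[2]),(0,0,[2]),(0,0,[2]),(1,0,[0])],[(1,5,[4,0,5,0,2]),(1,10,[4,1,5,0,2]),(1,15,[4,2,5,0,2]),(1,18,[4,3,5,0,2]),(2,0,[0]),(0,0,[1])],[(2,21,[4,4,0,1,1]),(2,22,[4,4,1,1,1]),(2,25,[4,4,2,1,1]),(3,0,[0]),(1,0,[1]),(2,27,[4,4,5,0,3])],[(3,31,[4,0,3,2,2]),(4,0,[0]),(5,0,[0]),(2,0,[1]),(3,26,[4,4,3,1,2]),(3,28,[4,5,3,2,2])],[(4,32,[4,1,0,3,1]),(3,0,[1]),(6,0,[0]),(4,33,[4,1,3,2,3]),(4,34,[4,1,4,3,1]),(4,35,[4,1,5,3,1])],[(7,0,[0]),(6,9,[3]),(3,0,[1]),(5,38,[4,2,3,2,3]),(5,41,[4,2,4,3,1]),(5,44,[4,2,5,3,1])],[(8,0,[0]),(5,8,[4,1,2,3,2]),(4,0,[1]),(9,0,[0]),(6,42,[4,2,4,4,1]),(6,45,[4,2,5,4,1])],[(5,0,[1]),(8,29,[4,0,1,5,1]),(7,36,[4,2,0,3,2]),(7,47,[4,3,0,5,2]),(7,54,[4,4,0,5,2]),(7,63,[4,5,0,5,2])],[(6,0,[1]),(7,30,[3]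),(8,37,[4,2,0,4,2]),(10,0,[0]),(8,55,[4,4,0,6,2]),(8,64,[4,5,0,6,2])],[(10,2,[3]),(9,48,[4,3,1,5,3]),(9,39,[4,2,3,4,2]),(6,0,[1]),(11,0,[0]),(9,52,[4,3,5,6,1])],[(9,1,[4,0,3,6,2]),(10,49,[4,3,1,7,3]),(12,0,[0]),(8,0,[1]),(13,0,[0]),(10,65,[4,5,0,9,2])],[(13,4,[3]),(11,56,[4,4,1,9,1]),(11,43,[4,2,4,9,2]),(11,50,[4,3,4,6,2]),(9,0,[1]),(14,0,[0])],[(12,73,[4,0,2,9,2]),(12,82,[4,1,2,10,2]),(10,0,[1]),(12,40,[4,2,3,8,3]),(15,0,[0]),(12,68,[4,5,2,10,2])],[(11,3,[4,0,4,9,2]),(13,57,[4,4,1,10,1]),(15,14,[3]),(13,59,[4,4,3,8,3]),(10,0,[1]),(16,0,[0])],[(16,7,[3]),(14,66,[4,5,1,11,1]),(14,46,[4,2,5,11,2]),(14,53,[4,3,5,11,2]),(14,60,[4,4,5,9,2]),(11,0,[1])],[(15,74,[4,0,2,11,2]),(15,83,[4,1,2,13,2]),(13,13,[4,2,4,10,2]),(17,0,[0]),(12,0,[1]),(18,0,[0]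)],[(14,6,[4,0,5,11,2]),(16,67,[4,5,1,13,1]),(18,17,[3]),(16,69,[4,5,3,13,1]),(16,71,[4,5,4,10,3]),(13,0,[1])],[(17,76,[4,0,3,15,2]),(19,0,[0]),(17,87,[4,2,3,13,2]),(15,0,[1]),(17,51,[4,3,4,12,3]),(20,0,[0])],[(18,75,[4,0,2,14,2]),(18,84,[4,1,2,16,2]),(16,16,[4,2,5,13,2]),(20,20,[3]),(18,72,[4,5,4,12,3]),(15,0,[1])],[(19,79,[4,1,0,17,1]),(17,0,[1]),(19,98,[4,1,2,17,1]),(19,85,[4,1,3,15,3]),(19,58,[4,4,1,17,2]),(21,0,[0])],[(20,77,[4,0,3,18,2]),(21,12,[3]),(20,88,[4,2,3,16,2]),(18,19,[4,3,5,15,2]),(22,0,[0]),(17,0,[1])],[(21,80,[4,1,0,20,1]),(20,11,[4,1,5,17,2]),(21,99,[4,1,2,20,1]),(21,86,[4,1,3,18,3]),(23,0,[0]),(19,0,[1])],[(22,78,[4,0,4,20,2]),(23,23,[4,4,1,20,1]),(22,89,[4,2,4,20,2]),(22,92,[4,3,4,18,2]),(20,0,[1]),(22,61,[4,4,5,17,3])],[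(23,81,[4,1,0,22,1]),(22,24,[3]),(23,100,[4,1,2,22,1]),(24,0,[0]),(21,0,[1]),(23,62,[4,4,5,19,3])],[(24,91,[4,3,0,23,1]),(24,101,[4,1,3,22,2]),(25,0,[0]),(23,0,[1]),(24,93,[4,3,4,21,3]),(24,70,[4,5,3,23,2])],[(26,0,[0]),(25,102,[4,2,1,24,1]),(24,0,[1]),(25,103,[4,2,3,23,3]),(25,94,[4,4,2,24,2]),(25,90,[4,2,5,24,1])],[(25,0,[1]),(26,105,[4,0,1,25,1]),(26,96,[4,0,2,24,3]),(26,104,[4,3,0,25,2]),(26,97,[4,0,4,25,1]),(26,95,[4,5,0,25,2])]]⟩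

/-- the levels of type E6 -/
def levE6 : ℕ → Level := fun k => [levE6_0,levE6_1,levE6_2,levE6_3,levE6_4,levE6_5].getD k ⟨0, [], []⟩

theorem cartanOK_E6 : cartanOK CoxeterMatrix.E₆ cartanE6 = true := by decide +kernel

theorem levOK_E6_0 : LevOK CoxeterMatrix.E₆ cartanE6 levE6 0 :=
  ⟨rfl, by decide +kernel, by decide +kernel⟩

theorem levOK_E6_1 : LevOK CoxeterMatrix.E₆ cartanE6 levE6 1 :=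
  ⟨rfl, by decide +kernel, by decide +kernel⟩

theorem levOK_E6_2 : LevOK CoxeterMatrix.E₆ cartanE6 levE6 2 :=
  ⟨rfl, by decide +kernel, by decide +kernel⟩

theorem levOK_E6_3 : LevOK CoxeterMatrix.E₆ cartanE6 levE6 3 :=
  ⟨rfl, by decide +kernel, by decide +kernel⟩

theorem levOK_E6_4 : LevOK CoxeterMatrix.E₆ cartanE6 levE6 4 :=
  ⟨rfl, by decide +kernel, by decide +kernel⟩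

theorem levOK_E6_5 : LevOK CoxeterMatrix.E₆ cartanE6 levE6 5 :=
  ⟨rfl, by decide +kernel, by decide +kernel⟩

theorem levOK_E6 : ∀ k, k < 6 → LevOK CoxeterMatrix.E₆ cartanE6 levE6 k := by
  intro k hk
  interval_cases k
  · exact levOK_E6_0
  · exact levOK_E6_1
  · exact levOK_E6_2
  · exact levOK_E6_3
  · exact levOK_E6_4
  · exact levOK_E6_5

theorem card_E6 : Nat.card CoxeterMatrix.E₆.Group = 51840 := by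
  rw [card_group CoxeterMatrix.E₆ cartanE6 levE6 cartanOK_E6 levOK_E6]
  decide +kernel

end Cfsg.Agent.Helper40.TCData
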