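import Mathlib
import Cfsg.Agent.Helper40.CoxTC

set_option autoImplicit false
set_option maxRecDepth 100000

namespace Cfsg.Agent.Helper40.TCData

open Cfsg.Agent.Helper40.TC

/-- Cartan matrix rows, type E8 -/
def cartanE8 : List (List ℤ) := [[2,0,-1,0,0,0,0,0],[0,2,0,-1,0,0,0,0],[-1,0,2,-1,0,0,0,0],[0,-1,-1,2,-1,0,0,0],[0,0,0,-1,2,-1,0,0],[0,0,0,0,-1,2,-1,0],[0,0,0,0,0,-1,2,-1],[0,0,0,0,0,0,-1,2]]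

/-- coset table, type E8, level 0 (2 cosets) -/
def levE8_0 : Level := ⟨0, [[],[0]],
  [[(1,0,[0])],[(0,0,[1])]]⟩

/-- coset table, type E8, level 1 (2 cosets) -/
def levE8_1 : Level := ⟨1, [[],[1]],
  [[(0,0,[2]),(1,0,[0])],[(1,1,[4,0,1,0,2]),(0,0,[1])]]⟩

/-- coset table, type E8, level 2 (3 cosets) -/
def levE8_2 : Level := ⟨2, [[],[2],[2,0]],
  [[(0,0,[2]),(0,0,[2]),(1,0,[0])],[(2,0,[0]),(1,2,[4,1,2,0,2]),(0,0,[1])],[(1,0,[1]),(2,3,[4,0,1,1,1]),(2,1,[4,0,2,0,3])]]⟩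

/-- coset table, type E8, level 3 (10 cosets) -/
def levE8_3 : Level := ⟨3, [[],[3],[3,1],[3,2],[3,1,2],[3,2,0],[3,1,2,0],[3,1,2,3],[3,1,2,0,3],[3,1,2,0,3,2]],
  [[(0,0,[2]),(0,0,[2]),(0,0,[2]),(1,0,[0])],[(1,1,[4,0,3,0,2]),(2,0,[0]),(3,0,[0]),(0,0,[1])],[(2,4,[4,1,0,1,1]),(1,0,[1]),(4,0,[0]),(2,7,[4,1,3,0,3])],[(5,0,[0]),(4,6,[3]),(1,0,[1]),(3,10,[4,2,3,0,3])],[(6,0,[0]),(3,5,[4,1,2,1,2]),(2,0,[1]),(7,0,[0])],[(3,0,[1]),(6,15,[4,0,1,3,1]),(5,8,[4,2,0,1,2]),(5,13,[4,3,0,3,2])],[(4,0,[1]),(5,16,[3]),(6,9,[4,2,0,2,2]),(8,0,[0])],[(8,3,[3]),(7,14,[4,3,1,3,3]),(7,11,[4,2,3,2,2]),(4,0,[1])],[(7,2,[4,0,3,4,2]),(8,17,[4,0,1,7,1]),(9,0,[0]),(6,0,[1])],[(9,18,[4,0,2,7,2]),(9,19,[4,1,2,8,2]),(8,0,[1]),(9,12,[4,2,3,6,3])]]⟩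

/-- coset table, type E8, level 4 (16 cosets) -/
def levE8_4 : Level := ⟨4, [[],[4],[4,3],[4,3,1],[4,3,2],[4,3,1,2],[4,3,2,0],[4,3,1,2,0],[4,3,1,2,3],[4,3,1,2,0,3],[4,3,1,2,3,4],[4,3,1,2,0,3,2],[4,3,1,2,0,3,4],[4,3,1,2,0,3,2,4],[4,3,1,2,0,3,2,4,3],[4,3,1,2,0,3,2,4,3,1]],
  [[(0,0,[2]),(0,0,[2]),(0,0,[2]),(0,0,[2]),(1,0,[0])],[(1,3,[4,0,4,0,2]),(1,8,[4,1,4,0,2]),(1,9,[4,2,4,0,2]),(2,0,[0]),(0,0,[1])],[(2,12,[4,3,0,1,1]),(3,0,[0]),(4,0,[0]),(1,0,[1]),(2,16,[4,3,4,0,3])],[(3,22,[4,0,1,2,2]),(2,0,[1]),(5,0,[0]),(3,13,[4,3,1,1,2]),(3,17,[4,4,1,2,2])],[(6,0,[0]),(5,7,[3]),(2,0,[1]),(4,14,[4,3,2,1,2]),(4,18,[4,4,2,2,2])],[(7,0,[0]),(4,6,[4,1,2,2,2]),(3,0,[1]),(8,0,[0]),(5,19,[4,4,2,3,2])],[(4,0,[1]),(7,23,[4,0,1,4,1]),(6,25,[4,0,2,2,3]),(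6,29,[4,0,3,4,1]),(6,32,[4,0,4,4,1])],[(5,0,[1]),(6,24,[3]),(7,26,[4,0,2,3,3]),(9,0,[0]),(7,33,[4,0,4,5,1])],[(9,2,[3]),(8,35,[4,1,3,4,2]),(8,15,[4,3,2,3,3]),(5,0,[1]),(10,0,[0])],[(8,1,[4,0,3,5,2]),(9,36,[4,1,3,6,2]),(11,0,[0]),(7,0,[1]),(12,0,[0])],[(12,5,[3]),(10,37,[4,1,4,8,2]),(10,20,[4,4,2,8,1]),(10,21,[4,4,3,5,3]),(8,0,[1])],[(11,27,[4,0,2,8,2]),(11,39,[4,2,1,9,1]),(9,0,[1]),(11,41,[4,2,3,7,3]),(13,0,[0])],[(10,4,[4,0,4,8,2]),(12,38,[4,1,4,9,2]),(13,11,[3]),(12,30,[4,0,3,10,1]),(9,0,[1])],[(13,28,[4,0,2,10,2]),(13,40,[4,2,1,12,1]),(12,10,[4,2,4,9,2]),(14,0,[0]),(11,0,[1])],[(14,31,[4,0,3,13,2]),(15,0,[0]),(14,42,[4,2,3,12,2]),(13,0,[1]),(14,44,[4,3,4,11,3])],[(15,34,[4,1,0,14,1]),(14,0,[1]),(15,46,[4,1,2,14,1]),(15,43,[4,3,1,13,2]),(15,45,[4,4,1,14,2])]]⟩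

/-- coset table, type E8, level 5 (27 cosets) -/
def levE8_5 : Level := ⟨5, [[],[5],[5,4],[5,4,3],[5,4,3,1],[5,4,3,2],[5,4,3,1,2],[5,4,3,2,0],[5,4,3,1,2,0],[5,4,3,1,2,3],[5,4,3,1,2,0,3],[5,4,3,1,2,3,4],[5,4,3,1,2,0,3,2],[5,4,3,1,2,0,3,4],[5,4,3,1,2,3,4,5],[5,4,3,1,2,0,3,2,4],[5,4,3,1,2,0,3,4,5],[5,4,3,1,2,0,3,2,4,3],[5,4,3,1,2,0,3,2,4,5],[5,4,3,1,2,0,3,2,4,3,1],[5,4,3,1,2,0,3,2,4,3,5],[5,4,3,1,2,0,3,2,4,3,1,5],[5,4,3,1,2,0,3,2,4,3,5,4],[5,4,3,1,2,0,3,2,4,3,1,5,4],[5,4,3,1,2,0,3,2,4,3,1,5,4,3],[5,4,3,1,2,0,3,2,4,3,1,5,4,3,2],[5,4,3,1,2,0,3,2,4,3,1,5,4,3,2,0]],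
  [[(0,0,[2]),(0,0,[2]),(0,0,[2]),(0,0,[2]),(0,0,[2]),(1,0,[0])],[(1,5,[4,0,5,0,2]),(1,10,[4,1,5,0,2]),(1,15,[4,2,5,0,2]),(1,18,[4,3,5,0,2]),(2,0,[0]),(0,0,[1])],[(2,21,[4,4,0,1,1]),(2,22,[4,4,1,1,1]),(2,25,[4,4,2,1,1]),(3,0,[0]),(1,0,[1]),(2,27,[4,4,5,0,3])],[(3,31,[4,0,3,2,2]),(4,0,[0]),(5,0,[0]),(2,0,[1]),(3,26,[4,4,3,1,2]),(3,28,[4,5,3,2,2])],[(4,32,[4,1,0,3,1]),(3,0,[1]),(6,0,[0]),(4,33,[4,1,3,2,3]),(4,34,[4,1,4,3,1]),(4,35,[4,1,5,3,1])],[(7,0,[0]),(6,9,[3]),(3,0,[1]),(5,38,[4,2,3,2,3]),(5,41,[4,2,4,3,1]),(5,44,[4,2,5,3,1])],[(8,0,[0]),(5,8,[4,1,2,3,2]),(4,0,[1]),(9,0,[0]),(6,42,[4,2,4,4,1]),(6,45,[4,2,5,4,1])],[(5,0,[1]),(8,29,[4,0,1,5,1]),(7,36,[4,2,0,3,2]),(7,47,[4,3,0,5,2]),(7,54,[4,4,0,5,2]),(7,63,[4,5,0,5,2])],[(6,0,[1]),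(7,30,[3]),(8,37,[4,2,0,4,2]),(10,0,[0]),(8,55,[4,4,0,6,2]),(8,64,[4,5,0,6,2])],[(10,2,[3]),(9,48,[4,3,1,5,3]),(9,39,[4,2,3,4,2]),(6,0,[1]),(11,0,[0]),(9,52,[4,3,5,6,1])],[(9,1,[4,0,3,6,2]),(10,49,[4,3,1,7,3]),(12,0,[0]),(8,0,[1]),(13,0,[0]),(10,65,[4,5,0,9,2])],[(13,4,[3]),(11,56,[4,4,1,9,1]),(11,43,[4,2,4,9,2]),(11,50,[4,3,4,6,2]),(9,0,[1]),(14,0,[0])],[(12,73,[4,0,2,9,2]),(12,82,[4,1,2,10,2]),(10,0,[1]),(12,40,[4,2,3,8,3]),(15,0,[0]),(12,68,[4,5,2,10,2])],[(11,3,[4,0,4,9,2]),(13,57,[4,4,1,10,1]),(15,14,[3]),(13,59,[4,4,3,8,3]),(10,0,[1]),(16,0,[0])],[(16,7,[3]),(14,66,[4,5,1,11,1]),(14,46,[4,2,5,11,2]),(14,53,[4,3,5,11,2]),(14,60,[4,4,5,9,2]),(11,0,[1])],[(15,74,[4,0,2,11,2]),(15,83,[4,1,2,13,2]),(13,13,[4,2,4,10,2]),(17,0,[0]),(1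2,0,[1]),(18,0,[0])],[(14,6,[4,0,5,11,2]),(16,67,[4,5,1,13,1]),(18,17,[3]),(16,69,[4,5,3,13,1]),(16,71,[4,5,4,10,3]),(13,0,[1])],[(17,76,[4,0,3,15,2]),(19,0,[0]),(17,87,[4,2,3,13,2]),(15,0,[1]),(17,51,[4,3,4,12,3]),(20,0,[0])],[(18,75,[4,0,2,14,2]),(18,84,[4,1,2,16,2]),(16,16,[4,2,5,13,2]),(20,20,[3]),(18,72,[4,5,4,12,3]),(15,0,[1])],[(19,79,[4,1,0,17,1]),(17,0,[1]),(19,98,[4,1,2,17,1]),(19,85,[4,1,3,15,3]),(19,58,[4,4,1,17,2]),(21,0,[0])],[(20,77,[4,0,3,18,2]),(21,12,[3]),(20,88,[4,2,3,16,2]),(18,19,[4,3,5,15,2]),(22,0,[0]),(17,0,[1])],[(21,80,[4,1,0,20,1]),(20,11,[4,1,5,17,2]),(21,99,[4,1,2,20,1]),(21,86,[4,1,3,18,3]),(23,0,[0]),(19,0,[1])],[(22,78,[4,0,4,20,2]),(23,23,[4,4,1,20,1]),(22,89,[4,2,4,20,2]),(22,92,[4,3,4,18,2]),(20,0,[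1]),(22,61,[4,4,5,17,3])],[(23,81,[4,1,0,22,1]),(22,24,[3]),(23,100,[4,1,2,22,1]),(24,0,[0]),(21,0,[1]),(23,62,[4,4,5,19,3])],[(24,91,[4,3,0,23,1]),(24,101,[4,1,3,22,2]),(25,0,[0]),(23,0,[1]),(24,93,[4,3,4,21,3]),(24,70,[4,5,3,23,2])],[(26,0,[0]),(25,102,[4,2,1,24,1]),(24,0,[1]),(25,103,[4,2,3,23,3]),(25,94,[4,4,2,24,2]),(25,90,[4,2,5,24,1])],[(25,0,[1]),(26,105,[4,0,1,25,1]),(26,96,[4,0,2,24,3]),(26,104,[4,3,0,25,2]),(26,97,[4,0,4,25,1]),(26,95,[4,5,0,25,2])]]⟩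

/-- coset table, type E8, level 6 (56 cosets) -/
def levE8_6 : Level := ⟨6, [[],[6],[6,5],[6,5,4],[6,5,4,3],[6,5,4,3,1],[6,5,4,3,2],[6,5,4,3,1,2],[6,5,4,3,2,0],[6,5,4,3,1,2,0],[6,5,4,3,1,2,3],[6,5,4,3,1,2,0,3],[6,5,4,3,1,2,3,4],[6,5,4,3,1,2,0,3,2],[6,5,4,3,1,2,0,3,4],[6,5,4,3,1,2,3,4,5],[6,5,4,3,1,2,0,3,2,4],[6,5,4,3,1,2,0,3,4,5],[6,5,4,3,1,2,3,4,5,6],[6,5,4,3,1,2,0,3,2,4,3],[6,5,4,3,1,2,0,3,2,4,5],[6,5,4,3,1,2,0,3,4,5,6],[6,5,4,3,1,2,0,3,2,4,3,1],[6,5,4,3,1,2,0,3,2,4,3,5],[6,5,4,3,1,2,0,3,2,4,5,6],[6,5,4,3,1,2,0,3,2,4,3,1,5],[6,5,4,3,1,2,0,3,2,4,3,5,4],[6,5,4,3,1,2,0,3,2,4,3,5,6],[6,5,4,3,1,2,0,3,2,4,3,1,5,4],[6,5,4,3,1,2,0,3,2,4,3,1,5,6],[6,5,4,3,1,2,0,3,2,4,3,5,4,6],[6,5,4,3,1,2,0,3,2,4,3,1,5,4,3],[6,5,4,3,1,2,0,3,2,4,3,1,5,4,6]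,[6,5,4,3,1,2,0,3,2,4,3,5,4,6,5],[6,5,4,3,1,2,0,3,2,4,3,1,5,4,3,2],[6,5,4,3,1,2,0,3,2,4,3,1,5,4,3,6],[6,5,4,3,1,2,0,3,2,4,3,1,5,4,6,5],[6,5,4,3,1,2,0,3,2,4,3,1,5,4,3,2,0],[6,5,4,3,1,2,0,3,2,4,3,1,5,4,3,2,6],[6,5,4,3,1,2,0,3,2,4,3,1,5,4,3,6,5],[6,5,4,3,1,2,0,3,2,4,3,1,5,4,3,2,0,6],[6,5,4,3,1,2,0,3,2,4,3,1,5,4,3,2,6,5],[6,5,4,3,1,2,0,3,2,4,3,1,5,4,3,6,5,4],[6,5,4,3,1,2,0,3,2,4,3,1,5,4,3,2,0,6,5],[6,5,4,3,1,2,0,3,2,4,3,1,5,4,3,2,6,5,4],[6,5,4,3,1,2,0,3,2,4,3,1,5,4,3,2,0,6,5,4],[6,5,4,3,1,2,0,3,2,4,3,1,5,4,3,2,6,5,4,3],[6,5,4,3,1,2,0,3,2,4,3,1,5,4,3,2,0,6,5,4,3],[6,5,4,3,1,2,0,3,2,4,3,1,5,4,3,2,6,5,4,3,1],[6,5,4,3,1,2,0,3,2,4,3,1,5,4,3,2,0,6,5,4,3,1],[6,5,4,3,1,2,0,3,2,4,3,1,5,4,3,2,0,6,5,4,3,2],[6,5,4,3,1,2,0,3,2,4,3,1,5,4,3,2,0,6,5,4,3,1,2],[6,5,4,3,1,2,0,3,2,4,3,1,5,4,3,2,0,6,5,4,3,1,2,3],[6,5,4,3,1,2,0,3,2,4,3,1,5,4,3,2,0,6,5,4,3,1,2,3,4],[6,5,4,3,1,2,0,3,2,4,3,1,5,4,3,2,0,6,5,4,3,1,2,3,4,5],[6,5,4,3,1,2,0,3,2,4,3,1,5,4,3,2,0,6,5,4,3,1,2,3,4,5,6]],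
  [[(0,0,[2]),(0,0,[2]),(0,0,[2]),(0,0,[2]),(0,0,[2]),(0,0,[2]),(1,0,[0])],[(1,7,[4,0,6,0,2]),(1,18,[4,1,6,0,2]),(1,25,[4,2,6,0,2]),(1,32,[4,3,6,0,2]),(1,39,[4,4,6,0,2]),(2,0,[0]),(0,0,[1])],[(2,44,[4,5,0,1,1]),(2,47,[4,5,1,1,1]),(2,48,[4,5,2,1,1]),(2,51,[4,5,3,1,1]),(3,0,[0]),(1,0,[1]),(2,55,[4,5,6,0,3])],[(3,61,[4,0,4,2,2]),(3,64,[4,1,4,2,2]),(3,67,[4,2,4,2,2]),(4,0,[0]),(2,0,[1]),(3,54,[4,5,4,1,2]),(3,58,[4,6,4,2,2])],[(4,70,[4,3,0,3,1]),(5,0,[0]),(6,0,[0]),(3,0,[1]),(4,76,[4,3,4,2,3]),(4,77,[4,3,5,3,1]),(4,78,[4,3,6,3,1])],[(5,100,[4,0,1,4,2]),(4,0,[1]),(7,0,[0]),(5,73,[4,3,1,3,2]),(5,79,[4,4,1,4,2]),(5,84,[4,5,1,4,2]),(5,91,[4,6,1,4,2])],[(8,0,[0]),(7,13,[3]),(4,0,[1]),(6,74,[4,3,2,3,2]),(6,80,[4,4,2,4,2]),(6,85,[4,5,2,4,2]),(6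,92,[4,6,2,4,2])],[(9,0,[0]),(6,12,[4,1,2,4,2]),(5,0,[1]),(10,0,[0]),(7,81,[4,4,2,5,2]),(7,86,[4,5,2,5,2]),(7,93,[4,6,2,5,2])],[(6,0,[1]),(9,59,[4,0,1,6,1]),(8,103,[4,0,2,4,3]),(8,109,[4,0,3,6,1]),(8,116,[4,0,4,6,1]),(8,122,[4,0,5,6,1]),(8,127,[4,0,6,6,1])],[(7,0,[1]),(8,60,[3]),(9,104,[4,0,2,5,3]),(11,0,[0]),(9,117,[4,0,4,7,1]),(9,123,[4,0,5,7,1]),(9,128,[4,0,6,7,1])],[(11,2,[3]),(10,137,[4,1,3,6,2]),(10,75,[4,3,2,5,3]),(7,0,[1]),(12,0,[0]),(10,88,[4,5,3,7,2]),(10,95,[4,6,3,7,2])],[(10,1,[4,0,3,7,2]),(11,138,[4,1,3,8,2]),(13,0,[0]),(9,0,[1]),(14,0,[0]),(11,124,[4,0,5,10,1]),(11,129,[4,0,6,10,1])],[(14,4,[3]),(12,139,[4,1,4,10,2]),(12,82,[4,4,2,10,1]),(12,83,[4,4,3,7,3]),(10,0,[1]),(15,0,[0]),(12,97,[4,6,4,10,2])],[(13,105,[4,0,2,10,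2]),(13,145,[4,2,1,11,1]),(11,0,[1]),(13,149,[4,2,3,9,3]),(16,0,[0]),(13,157,[4,2,5,11,1]),(13,160,[4,2,6,11,1])],[(12,3,[4,0,4,10,2]),(14,140,[4,1,4,11,2]),(16,22,[3]),(14,110,[4,0,3,12,1]),(11,0,[1]),(17,0,[0]),(14,130,[4,0,6,12,1])],[(17,6,[3]),(15,141,[4,1,5,12,2]),(15,87,[4,5,2,12,1]),(15,89,[4,5,3,12,1]),(15,90,[4,5,4,10,3]),(12,0,[1]),(18,0,[0])],[(16,106,[4,0,2,12,2]),(16,146,[4,2,1,14,1]),(14,21,[4,2,4,11,2]),(19,0,[0]),(13,0,[1]),(20,0,[0]),(16,161,[4,2,6,14,1])],[(15,5,[4,0,5,12,2]),(17,142,[4,1,5,14,2]),(20,24,[3]),(17,111,[4,0,3,15,1]),(17,118,[4,0,4,15,1]),(14,0,[1]),(21,0,[0])],[(21,9,[3]),(18,143,[4,1,6,15,2]),(18,94,[4,6,2,15,1]),(18,96,[4,6,3,15,1]),(18,98,[4,6,4,15,1]),(18,99,[4,6,5,12,3]),(15,0,[1])],[(19,112,[4,0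,3,16,2]),(22,0,[0]),(19,150,[4,2,3,14,2]),(16,0,[1]),(19,168,[4,3,4,13,3]),(23,0,[0]),(19,175,[4,3,6,16,1])],[(20,107,[4,0,2,15,2]),(20,147,[4,2,1,17,1]),(17,23,[4,2,5,14,2]),(23,31,[3]),(20,153,[4,2,4,17,1]),(16,0,[1]),(24,0,[0])],[(18,8,[4,0,6,15,2]),(21,144,[4,1,6,17,2]),(24,27,[3]),(21,113,[4,0,3,18,1]),(21,119,[4,0,4,18,1]),(21,125,[4,0,5,18,1]),(17,0,[1])],[(22,131,[4,1,0,19,1]),(19,0,[1]),(22,208,[4,1,2,19,1]),(22,165,[4,3,1,16,2]),(22,177,[4,4,1,19,2]),(25,0,[0]),(22,192,[4,5,6,22,5])],[(23,114,[4,0,3,20,2]),(25,17,[3]),(23,151,[4,2,3,17,2]),(20,30,[4,3,5,16,2]),(26,0,[0]),(19,0,[1]),(27,0,[0])],[(24,108,[4,0,2,18,2]),(24,148,[4,2,1,21,1]),(21,26,[4,2,6,17,2]),(27,34,[3]),(24,154,[4,2,4,21,1]),(24,158,[4,2,5,21,1]),(20,0,[1]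)],[(25,132,[4,1,0,23,1]),(23,16,[4,1,5,19,2]),(25,209,[4,1,2,23,1]),(25,166,[4,3,1,20,2]),(28,0,[0]),(22,0,[1]),(29,0,[0])],[(26,120,[4,0,4,23,2]),(28,37,[4,4,1,23,1]),(26,155,[4,2,4,23,2]),(26,169,[4,3,4,20,2]),(23,0,[1]),(26,180,[4,4,5,19,3]),(30,0,[0])],[(27,115,[4,0,3,24,2]),(29,20,[3]),(27,152,[4,2,3,21,2]),(24,33,[4,3,6,20,2]),(30,41,[3]),(27,173,[4,3,5,24,1]),(23,0,[1])],[(28,133,[4,1,0,26,1]),(26,38,[3]),(28,210,[4,1,2,26,1]),(31,0,[0]),(25,0,[1]),(28,181,[4,4,5,22,3]),(32,0,[0])],[(29,134,[4,1,0,27,1]),(27,19,[4,1,6,23,2]),(29,211,[4,1,2,27,1]),(29,167,[4,3,1,24,2]),(32,43,[3]),(29,186,[4,5,1,27,2]),(25,0,[1])],[(30,121,[4,0,4,27,2]),(32,56,[4,6,1,26,1]),(30,156,[4,2,4,27,2]),(30,170,[4,3,4,24,2]),(27,40,[4,4,6,23,2]),(33,0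,[0]),(26,0,[1])],[(31,162,[4,3,0,28,1]),(31,214,[4,1,3,26,2]),(34,0,[0]),(28,0,[1]),(31,171,[4,3,4,25,3]),(31,187,[4,5,3,28,2]),(35,0,[0])],[(32,135,[4,1,0,30,1]),(30,57,[3]),(32,212,[4,1,2,30,1]),(35,36,[3]),(29,42,[4,4,6,25,2]),(36,0,[0]),(28,0,[1])],[(33,126,[4,0,5,30,2]),(36,66,[3]),(33,159,[4,2,5,30,2]),(33,174,[4,3,5,30,2]),(33,182,[4,4,5,27,2]),(30,0,[1]),(33,193,[4,5,6,26,3])],[(37,0,[0]),(34,220,[4,2,1,31,1]),(31,0,[1]),(34,224,[4,2,3,28,3]),(34,178,[4,4,2,31,2]),(34,200,[4,6,5,34,5]),(38,0,[0])],[(35,163,[4,3,0,32,1]),(35,215,[4,1,3,30,2]),(38,29,[3]),(32,35,[4,3,6,28,2]),(35,172,[4,3,4,29,3]),(39,0,[0]),(31,0,[1])],[(36,136,[4,1,0,33,1]),(33,65,[4,1,5,30,2]),(36,213,[4,1,2,33,1]),(39,52,[4,5,3,32,1]),(36,190,[4,5,4,29,3])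,(32,0,[1]),(36,194,[4,5,6,28,3])],[(34,0,[1]),(37,260,[4,0,1,34,1]),(37,201,[4,0,2,31,3]),(37,230,[4,3,0,34,2]),(37,197,[4,6,4,37,3]),(37,205,[4,0,5,34,1]),(40,0,[0])],[(40,11,[3]),(38,221,[4,2,1,35,1]),(35,28,[4,2,6,31,2]),(38,225,[4,2,3,32,3]),(38,179,[4,4,2,35,2]),(41,0,[0]),(34,0,[1])],[(39,164,[4,3,0,36,1]),(39,216,[4,1,3,33,2]),(41,49,[4,5,2,35,1]),(36,53,[3]),(42,0,[0]),(35,0,[1]),(39,195,[4,5,6,31,3])],[(38,10,[4,0,6,34,2]),(40,261,[4,0,1,38,1]),(40,202,[4,0,2,35,3]),(40,231,[4,3,0,38,2]),(40,191,[4,5,4,40,5]),(43,0,[0]),(37,0,[1])],[(43,45,[4,5,0,38,1]),(41,222,[4,2,1,39,1]),(39,50,[3]),(41,226,[4,2,3,36,3]),(44,0,[0]),(38,0,[1]),(41,196,[4,6,2,39,2])],[(42,176,[4,4,0,39,1]),(42,217,[4,1,4,39,2]),(44,69,[3]),(42,235,[4,3,4,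36,2]),(39,0,[1]),(42,183,[4,4,5,35,3]),(42,198,[4,6,4,39,2])],[(41,46,[3]),(43,262,[4,0,1,41,1]),(43,203,[4,0,2,39,3]),(43,232,[4,3,0,41,2]),(45,0,[0]),(40,0,[1]),(43,206,[4,0,6,41,1])],[(45,63,[3]),(44,223,[4,2,1,42,1]),(42,68,[4,2,4,39,2]),(46,0,[0]),(41,0,[1]),(44,184,[4,4,5,38,3]),(44,199,[4,6,4,41,2])],[(44,62,[4,0,4,41,2]),(45,263,[4,0,1,44,1]),(45,204,[4,0,2,42,3]),(47,0,[0]),(43,0,[1]),(45,185,[4,5,0,44,2]),(45,207,[4,0,6,44,1])],[(47,71,[4,3,0,44,1]),(48,0,[0]),(46,265,[4,2,3,42,2]),(44,0,[1]),(46,236,[4,3,4,41,3]),(46,188,[4,5,3,44,2]),(46,239,[4,3,6,44,1])],[(46,72,[3]),(49,0,[0]),(50,0,[0]),(45,0,[1]),(47,237,[4,3,4,43,3]),(47,189,[4,5,3,45,2]),(47,240,[4,3,6,45,1])],[(49,102,[3]),(46,0,[1]),(48,272,[4,1,2,46,1]),(48,233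,[4,3,1,44,2]),(48,241,[4,4,1,46,2]),(48,218,[4,1,5,46,1]),(48,251,[4,6,1,46,2])],[(48,101,[4,0,1,46,2]),(47,0,[1]),(51,0,[0]),(49,264,[4,0,3,48,1]),(49,242,[4,4,1,47,2]),(49,219,[4,1,5,47,1]),(49,252,[4,6,1,47,2])],[(50,270,[4,0,2,46,2]),(51,15,[3]),(47,0,[1]),(50,227,[4,2,3,45,3]),(50,244,[4,4,2,47,2]),(50,228,[4,2,5,47,1]),(50,254,[4,6,2,47,2])],[(51,271,[4,1,0,50,1]),(50,14,[4,1,2,47,2]),(49,0,[1]),(52,0,[0]),(51,245,[4,4,2,49,2]),(51,229,[4,2,5,49,1]),(51,255,[4,6,2,49,2])],[(52,273,[4,3,0,51,1]),(52,234,[4,3,1,50,3]),(52,266,[4,2,3,49,2]),(51,0,[1]),(53,0,[0]),(52,238,[4,3,5,51,1]),(52,256,[4,6,3,51,2])],[(53,274,[4,4,0,52,1]),(53,243,[4,4,1,52,1]),(53,267,[4,2,4,52,2]),(53,246,[4,4,3,51,3]),(52,0,[1]),(54,0,[0]),(53,258,[4,6,4,52,2])],[(54,275,[4,5,0,53,1]),(54,249,[4,5,1,53,1]),(54,268,[4,2,5,53,2]),(54,250,[4,5,3,53,1]),(54,247,[4,4,5,52,2]),(53,0,[1]),(55,0,[0])],[(55,276,[4,6,0,54,1]),(55,253,[4,6,1,54,1]),(55,269,[4,2,6,54,2]),(55,257,[4,6,3,54,1]),(55,248,[4,4,6,54,2]),(55,259,[4,6,5,53,3]),(54,0,[1])]]⟩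

/-- coset table, type E8, level 7 (240 cosets) -/
def levE8_7 : Level := ⟨7, [[],[7],[7,6],[7,6,5],[7,6,5,4],[7,6,5,4,3],[7,6,5,4,3,1],[7,6,5,4,3,2],[7,6,5,4,3,1,2],[7,6,5,4,3,2,0],[7,6,5,4,3,1,2,0],[7,6,5,4,3,1,2,3],[7,6,5,4,3,1,2,0,3],[7,6,5,4,3,1,2,3,4],[7,6,5,4,3,1,2,0,3,2],[7,6,5,4,3,1,2,0,3,4],[7,6,5,4,3,1,2,3,4,5],[7,6,5,4,3,1,2,0,3,2,4],[7,6,5,4,3,1,2,0,3,4,5],[7,6,5,4,3,1,2,3,4,5,6],[7,6,5,4,3,1,2,0,3,2,4,3],[7,6,5,4,3,1,2,0,3,2,4,5],[7,6,5,4,3,1,2,0,3,4,5,6],[7,6,5,4,3,1,2,3,4,5,6,7],[7,6,5,4,3,1,2,0,3,2,4,3,1],[7,6,5,4,3,1,2,0,3,2,4,3,5],[7,6,5,4,3,1,2,0,3,2,4,5,6],[7,6,5,4,3,1,2,0,3,4,5,6,7],[7,6,5,4,3,1,2,0,3,2,4,3,1,5],[7,6,5,4,3,1,2,0,3,2,4,3,5,4],[7,6,5,4,3,1,2,0,3,2,4,3,5,6],[7,6,5,4,3,1,2,0,3,2,4,5,6,7],[7,6,5,4,3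,1,2,0,3,2,4,3,1,5,4],[7,6,5,4,3,1,2,0,3,2,4,3,1,5,6],[7,6,5,4,3,1,2,0,3,2,4,3,5,4,6],[7,6,5,4,3,1,2,0,3,2,4,3,5,6,7],[7,6,5,4,3,1,2,0,3,2,4,3,1,5,4,3],[7,6,5,4,3,1,2,0,3,2,4,3,1,5,4,6],[7,6,5,4,3,1,2,0,3,2,4,3,1,5,6,7],[7,6,5,4,3,1,2,0,3,2,4,3,5,4,6,5],[7,6,5,4,3,1,2,0,3,2,4,3,5,4,6,7],[7,6,5,4,3,1,2,0,3,2,4,3,1,5,4,3,2],[7,6,5,4,3,1,2,0,3,2,4,3,1,5,4,3,6],[7,6,5,4,3,1,2,0,3,2,4,3,1,5,4,6,5],[7,6,5,4,3,1,2,0,3,2,4,3,1,5,4,6,7],[7,6,5,4,3,1,2,0,3,2,4,3,5,4,6,5,7],[7,6,5,4,3,1,2,0,3,2,4,3,1,5,4,3,2,0],[7,6,5,4,3,1,2,0,3,2,4,3,1,5,4,3,2,6],[7,6,5,4,3,1,2,0,3,2,4,3,1,5,4,3,6,5],[7,6,5,4,3,1,2,0,3,2,4,3,1,5,4,3,6,7],[7,6,5,4,3,1,2,0,3,2,4,3,1,5,4,6,5,7],[7,6,5,4,3,1,2,0,3,2,4,3,5,4,6,5,7,6],[7,6,5,4,3,1,2,0,3,2,4,3,1,5,4,3,2,0,6],[7,6,5,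4,3,1,2,0,3,2,4,3,1,5,4,3,2,6,5],[7,6,5,4,3,1,2,0,3,2,4,3,1,5,4,3,2,6,7],[7,6,5,4,3,1,2,0,3,2,4,3,1,5,4,3,6,5,4],[7,6,5,4,3,1,2,0,3,2,4,3,1,5,4,3,6,5,7],[7,6,5,4,3,1,2,0,3,2,4,3,1,5,4,6,5,7,6],[7,6,5,4,3,1,2,0,3,2,4,3,1,5,4,3,2,0,6,5],[7,6,5,4,3,1,2,0,3,2,4,3,1,5,4,3,2,0,6,7],[7,6,5,4,3,1,2,0,3,2,4,3,1,5,4,3,2,6,5,4],[7,6,5,4,3,1,2,0,3,2,4,3,1,5,4,3,2,6,5,7],[7,6,5,4,3,1,2,0,3,2,4,3,1,5,4,3,6,5,4,7],[7,6,5,4,3,1,2,0,3,2,4,3,1,5,4,3,6,5,7,6],[7,6,5,4,3,1,2,0,3,2,4,3,1,5,4,3,2,0,6,5,4],[7,6,5,4,3,1,2,0,3,2,4,3,1,5,4,3,2,0,6,5,7],[7,6,5,4,3,1,2,0,3,2,4,3,1,5,4,3,2,6,5,4,3],[7,6,5,4,3,1,2,0,3,2,4,3,1,5,4,3,2,6,5,4,7],[7,6,5,4,3,1,2,0,3,2,4,3,1,5,4,3,2,6,5,7,6],[7,6,5,4,3,1,2,0,3,2,4,3,1,5,4,3,6,5,4,7,6],[7,6,5,4,3,1,2,0,3,2,4,3,1,5,4,3,2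,0,6,5,4,3],[7,6,5,4,3,1,2,0,3,2,4,3,1,5,4,3,2,0,6,5,4,7],[7,6,5,4,3,1,2,0,3,2,4,3,1,5,4,3,2,0,6,5,7,6],[7,6,5,4,3,1,2,0,3,2,4,3,1,5,4,3,2,6,5,4,3,1],[7,6,5,4,3,1,2,0,3,2,4,3,1,5,4,3,2,6,5,4,3,7],[7,6,5,4,3,1,2,0,3,2,4,3,1,5,4,3,2,6,5,4,7,6],[7,6,5,4,3,1,2,0,3,2,4,3,1,5,4,3,6,5,4,7,6,5],[7,6,5,4,3,1,2,0,3,2,4,3,1,5,4,3,2,0,6,5,4,3,1],[7,6,5,4,3,1,2,0,3,2,4,3,1,5,4,3,2,0,6,5,4,3,2],[7,6,5,4,3,1,2,0,3,2,4,3,1,5,4,3,2,0,6,5,4,3,7],[7,6,5,4,3,1,2,0,3,2,4,3,1,5,4,3,2,0,6,5,4,7,6],[7,6,5,4,3,1,2,0,3,2,4,3,1,5,4,3,2,6,5,4,3,1,7],[7,6,5,4,3,1,2,0,3,2,4,3,1,5,4,3,2,6,5,4,3,7,6],[7,6,5,4,3,1,2,0,3,2,4,3,1,5,4,3,2,6,5,4,7,6,5],[7,6,5,4,3,1,2,0,3,2,4,3,1,5,4,3,2,0,6,5,4,3,1,2],[7,6,5,4,3,1,2,0,3,2,4,3,1,5,4,3,2,0,6,5,4,3,1,7],[7,6,5,4,3,1,2,0,3,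2,4,3,1,5,4,3,2,0,6,5,4,3,2,7],[7,6,5,4,3,1,2,0,3,2,4,3,1,5,4,3,2,0,6,5,4,3,7,6],[7,6,5,4,3,1,2,0,3,2,4,3,1,5,4,3,2,0,6,5,4,7,6,5],[7,6,5,4,3,1,2,0,3,2,4,3,1,5,4,3,2,6,5,4,3,1,7,6],[7,6,5,4,3,1,2,0,3,2,4,3,1,5,4,3,2,6,5,4,3,7,6,5],[7,6,5,4,3,1,2,0,3,2,4,3,1,5,4,3,2,0,6,5,4,3,1,2,3],[7,6,5,4,3,1,2,0,3,2,4,3,1,5,4,3,2,0,6,5,4,3,1,2,7],[7,6,5,4,3,1,2,0,3,2,4,3,1,5,4,3,2,0,6,5,4,3,1,7,6],[7,6,5,4,3,1,2,0,3,2,4,3,1,5,4,3,2,0,6,5,4,3,2,7,6],[7,6,5,4,3,1,2,0,3,2,4,3,1,5,4,3,2,0,6,5,4,3,7,6,5],[7,6,5,4,3,1,2,0,3,2,4,3,1,5,4,3,2,6,5,4,3,1,7,6,5],[7,6,5,4,3,1,2,0,3,2,4,3,1,5,4,3,2,6,5,4,3,7,6,5,4],[7,6,5,4,3,1,2,0,3,2,4,3,1,5,4,3,2,0,6,5,4,3,1,2,3,4],[7,6,5,4,3,1,2,0,3,2,4,3,1,5,4,3,2,0,6,5,4,3,1,2,3,7],[7,6,5,4,3,1,2,0,3,2,4,3,1,5,4,3,2,0,6,5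,4,3,1,2,7,6],[7,6,5,4,3,1,2,0,3,2,4,3,1,5,4,3,2,0,6,5,4,3,1,7,6,5],[7,6,5,4,3,1,2,0,3,2,4,3,1,5,4,3,2,0,6,5,4,3,2,7,6,5],[7,6,5,4,3,1,2,0,3,2,4,3,1,5,4,3,2,0,6,5,4,3,7,6,5,4],[7,6,5,4,3,1,2,0,3,2,4,3,1,5,4,3,2,6,5,4,3,1,7,6,5,4],[7,6,5,4,3,1,2,0,3,2,4,3,1,5,4,3,2,0,6,5,4,3,1,2,3,4,5],[7,6,5,4,3,1,2,0,3,2,4,3,1,5,4,3,2,0,6,5,4,3,1,2,3,4,7],[7,6,5,4,3,1,2,0,3,2,4,3,1,5,4,3,2,0,6,5,4,3,1,2,3,7,6],[7,6,5,4,3,1,2,0,3,2,4,3,1,5,4,3,2,0,6,5,4,3,1,2,7,6,5],[7,6,5,4,3,1,2,0,3,2,4,3,1,5,4,3,2,0,6,5,4,3,1,7,6,5,4],[7,6,5,4,3,1,2,0,3,2,4,3,1,5,4,3,2,0,6,5,4,3,2,7,6,5,4],[7,6,5,4,3,1,2,0,3,2,4,3,1,5,4,3,2,6,5,4,3,1,7,6,5,4,3],[7,6,5,4,3,1,2,0,3,2,4,3,1,5,4,3,2,0,6,5,4,3,1,2,3,4,5,6],[7,6,5,4,3,1,2,0,3,2,4,3,1,5,4,3,2,0,6,5,4,3,1,2,3,4,5,7],[7,6,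5,4,3,1,2,0,3,2,4,3,1,5,4,3,2,0,6,5,4,3,1,2,3,4,7,6],[7,6,5,4,3,1,2,0,3,2,4,3,1,5,4,3,2,0,6,5,4,3,1,2,3,7,6,5],[7,6,5,4,3,1,2,0,3,2,4,3,1,5,4,3,2,0,6,5,4,3,1,2,7,6,5,4],[7,6,5,4,3,1,2,0,3,2,4,3,1,5,4,3,2,0,6,5,4,3,1,7,6,5,4,3],[7,6,5,4,3,1,2,0,3,2,4,3,1,5,4,3,2,0,6,5,4,3,2,7,6,5,4,3],[7,6,5,4,3,1,2,0,3,2,4,3,1,5,4,3,2,6,5,4,3,1,7,6,5,4,3,2],[7,6,5,4,3,1,2,0,3,2,4,3,1,5,4,3,2,0,6,5,4,3,1,2,3,4,5,6,7],[7,6,5,4,3,1,2,0,3,2,4,3,1,5,4,3,2,0,6,5,4,3,1,2,3,4,5,7,6],[7,6,5,4,3,1,2,0,3,2,4,3,1,5,4,3,2,0,6,5,4,3,1,2,3,4,7,6,5],[7,6,5,4,3,1,2,0,3,2,4,3,1,5,4,3,2,0,6,5,4,3,1,2,3,7,6,5,4],[7,6,5,4,3,1,2,0,3,2,4,3,1,5,4,3,2,0,6,5,4,3,1,2,7,6,5,4,3],[7,6,5,4,3,1,2,0,3,2,4,3,1,5,4,3,2,0,6,5,4,3,1,7,6,5,4,3,2],[7,6,5,4,3,1,2,0,3,2,4,3,1,5,4,3,2,0,6,5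,4,3,2,7,6,5,4,3,1],[7,6,5,4,3,1,2,0,3,2,4,3,1,5,4,3,2,6,5,4,3,1,7,6,5,4,3,2,0],[7,6,5,4,3,1,2,0,3,2,4,3,1,5,4,3,2,0,6,5,4,3,1,2,3,4,5,6,7,6],[7,6,5,4,3,1,2,0,3,2,4,3,1,5,4,3,2,0,6,5,4,3,1,2,3,4,5,7,6,5],[7,6,5,4,3,1,2,0,3,2,4,3,1,5,4,3,2,0,6,5,4,3,1,2,3,4,7,6,5,4],[7,6,5,4,3,1,2,0,3,2,4,3,1,5,4,3,2,0,6,5,4,3,1,2,3,7,6,5,4,3],[7,6,5,4,3,1,2,0,3,2,4,3,1,5,4,3,2,0,6,5,4,3,1,2,7,6,5,4,3,1],[7,6,5,4,3,1,2,0,3,2,4,3,1,5,4,3,2,0,6,5,4,3,1,2,7,6,5,4,3,2],[7,6,5,4,3,1,2,0,3,2,4,3,1,5,4,3,2,0,6,5,4,3,1,7,6,5,4,3,2,0],[7,6,5,4,3,1,2,0,3,2,4,3,1,5,4,3,2,0,6,5,4,3,1,2,3,4,5,6,7,6,5],[7,6,5,4,3,1,2,0,3,2,4,3,1,5,4,3,2,0,6,5,4,3,1,2,3,4,5,7,6,5,4],[7,6,5,4,3,1,2,0,3,2,4,3,1,5,4,3,2,0,6,5,4,3,1,2,3,4,7,6,5,4,3],[7,6,5,4,3,1,2,0,3,2,4,3,1,5,4,3,2,0,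6,5,4,3,1,2,3,7,6,5,4,3,1],[7,6,5,4,3,1,2,0,3,2,4,3,1,5,4,3,2,0,6,5,4,3,1,2,3,7,6,5,4,3,2],[7,6,5,4,3,1,2,0,3,2,4,3,1,5,4,3,2,0,6,5,4,3,1,2,7,6,5,4,3,1,2],[7,6,5,4,3,1,2,0,3,2,4,3,1,5,4,3,2,0,6,5,4,3,1,2,7,6,5,4,3,2,0],[7,6,5,4,3,1,2,0,3,2,4,3,1,5,4,3,2,0,6,5,4,3,1,2,3,4,5,6,7,6,5,4],[7,6,5,4,3,1,2,0,3,2,4,3,1,5,4,3,2,0,6,5,4,3,1,2,3,4,5,7,6,5,4,3],[7,6,5,4,3,1,2,0,3,2,4,3,1,5,4,3,2,0,6,5,4,3,1,2,3,4,7,6,5,4,3,1],[7,6,5,4,3,1,2,0,3,2,4,3,1,5,4,3,2,0,6,5,4,3,1,2,3,4,7,6,5,4,3,2],[7,6,5,4,3,1,2,0,3,2,4,3,1,5,4,3,2,0,6,5,4,3,1,2,3,7,6,5,4,3,1,2],[7,6,5,4,3,1,2,0,3,2,4,3,1,5,4,3,2,0,6,5,4,3,1,2,3,7,6,5,4,3,2,0],[7,6,5,4,3,1,2,0,3,2,4,3,1,5,4,3,2,0,6,5,4,3,1,2,7,6,5,4,3,1,2,0],[7,6,5,4,3,1,2,0,3,2,4,3,1,5,4,3,2,0,6,5,4,3,1,2,3,4,5,6,7,6,5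,4,3],[7,6,5,4,3,1,2,0,3,2,4,3,1,5,4,3,2,0,6,5,4,3,1,2,3,4,5,7,6,5,4,3,1],[7,6,5,4,3,1,2,0,3,2,4,3,1,5,4,3,2,0,6,5,4,3,1,2,3,4,5,7,6,5,4,3,2],[7,6,5,4,3,1,2,0,3,2,4,3,1,5,4,3,2,0,6,5,4,3,1,2,3,4,7,6,5,4,3,1,2],[7,6,5,4,3,1,2,0,3,2,4,3,1,5,4,3,2,0,6,5,4,3,1,2,3,4,7,6,5,4,3,2,0],[7,6,5,4,3,1,2,0,3,2,4,3,1,5,4,3,2,0,6,5,4,3,1,2,3,7,6,5,4,3,1,2,0],[7,6,5,4,3,1,2,0,3,2,4,3,1,5,4,3,2,0,6,5,4,3,1,2,3,7,6,5,4,3,1,2,3],[7,6,5,4,3,1,2,0,3,2,4,3,1,5,4,3,2,0,6,5,4,3,1,2,3,4,5,6,7,6,5,4,3,1],[7,6,5,4,3,1,2,0,3,2,4,3,1,5,4,3,2,0,6,5,4,3,1,2,3,4,5,6,7,6,5,4,3,2],[7,6,5,4,3,1,2,0,3,2,4,3,1,5,4,3,2,0,6,5,4,3,1,2,3,4,5,7,6,5,4,3,1,2],[7,6,5,4,3,1,2,0,3,2,4,3,1,5,4,3,2,0,6,5,4,3,1,2,3,4,5,7,6,5,4,3,2,0],[7,6,5,4,3,1,2,0,3,2,4,3,1,5,4,3,2,0,6,5,4,3,1,2,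3,4,7,6,5,4,3,1,2,0],[7,6,5,4,3,1,2,0,3,2,4,3,1,5,4,3,2,0,6,5,4,3,1,2,3,4,7,6,5,4,3,1,2,3],[7,6,5,4,3,1,2,0,3,2,4,3,1,5,4,3,2,0,6,5,4,3,1,2,3,7,6,5,4,3,1,2,0,3],[7,6,5,4,3,1,2,0,3,2,4,3,1,5,4,3,2,0,6,5,4,3,1,2,3,4,5,6,7,6,5,4,3,1,2],[7,6,5,4,3,1,2,0,3,2,4,3,1,5,4,3,2,0,6,5,4,3,1,2,3,4,5,6,7,6,5,4,3,2,0],[7,6,5,4,3,1,2,0,3,2,4,3,1,5,4,3,2,0,6,5,4,3,1,2,3,4,5,7,6,5,4,3,1,2,0],[7,6,5,4,3,1,2,0,3,2,4,3,1,5,4,3,2,0,6,5,4,3,1,2,3,4,5,7,6,5,4,3,1,2,3],[7,6,5,4,3,1,2,0,3,2,4,3,1,5,4,3,2,0,6,5,4,3,1,2,3,4,7,6,5,4,3,1,2,0,3],[7,6,5,4,3,1,2,0,3,2,4,3,1,5,4,3,2,0,6,5,4,3,1,2,3,4,7,6,5,4,3,1,2,3,4],[7,6,5,4,3,1,2,0,3,2,4,3,1,5,4,3,2,0,6,5,4,3,1,2,3,7,6,5,4,3,1,2,0,3,2],[7,6,5,4,3,1,2,0,3,2,4,3,1,5,4,3,2,0,6,5,4,3,1,2,3,4,5,6,7,6,5,4,3,1,2,0],[7,6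,5,4,3,1,2,0,3,2,4,3,1,5,4,3,2,0,6,5,4,3,1,2,3,4,5,6,7,6,5,4,3,1,2,3],[7,6,5,4,3,1,2,0,3,2,4,3,1,5,4,3,2,0,6,5,4,3,1,2,3,4,5,7,6,5,4,3,1,2,0,3],[7,6,5,4,3,1,2,0,3,2,4,3,1,5,4,3,2,0,6,5,4,3,1,2,3,4,5,7,6,5,4,3,1,2,3,4],[7,6,5,4,3,1,2,0,3,2,4,3,1,5,4,3,2,0,6,5,4,3,1,2,3,4,7,6,5,4,3,1,2,0,3,2],[7,6,5,4,3,1,2,0,3,2,4,3,1,5,4,3,2,0,6,5,4,3,1,2,3,4,7,6,5,4,3,1,2,0,3,4],[7,6,5,4,3,1,2,0,3,2,4,3,1,5,4,3,2,0,6,5,4,3,1,2,3,4,5,6,7,6,5,4,3,1,2,0,3],[7,6,5,4,3,1,2,0,3,2,4,3,1,5,4,3,2,0,6,5,4,3,1,2,3,4,5,6,7,6,5,4,3,1,2,3,4],[7,6,5,4,3,1,2,0,3,2,4,3,1,5,4,3,2,0,6,5,4,3,1,2,3,4,5,7,6,5,4,3,1,2,0,3,2],[7,6,5,4,3,1,2,0,3,2,4,3,1,5,4,3,2,0,6,5,4,3,1,2,3,4,5,7,6,5,4,3,1,2,0,3,4],[7,6,5,4,3,1,2,0,3,2,4,3,1,5,4,3,2,0,6,5,4,3,1,2,3,4,5,7,6,5,4,3,1,2,3,4,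5],[7,6,5,4,3,1,2,0,3,2,4,3,1,5,4,3,2,0,6,5,4,3,1,2,3,4,7,6,5,4,3,1,2,0,3,2,4],[7,6,5,4,3,1,2,0,3,2,4,3,1,5,4,3,2,0,6,5,4,3,1,2,3,4,5,6,7,6,5,4,3,1,2,0,3,2],[7,6,5,4,3,1,2,0,3,2,4,3,1,5,4,3,2,0,6,5,4,3,1,2,3,4,5,6,7,6,5,4,3,1,2,0,3,4],[7,6,5,4,3,1,2,0,3,2,4,3,1,5,4,3,2,0,6,5,4,3,1,2,3,4,5,6,7,6,5,4,3,1,2,3,4,5],[7,6,5,4,3,1,2,0,3,2,4,3,1,5,4,3,2,0,6,5,4,3,1,2,3,4,5,7,6,5,4,3,1,2,0,3,2,4],[7,6,5,4,3,1,2,0,3,2,4,3,1,5,4,3,2,0,6,5,4,3,1,2,3,4,5,7,6,5,4,3,1,2,0,3,4,5],[7,6,5,4,3,1,2,0,3,2,4,3,1,5,4,3,2,0,6,5,4,3,1,2,3,4,7,6,5,4,3,1,2,0,3,2,4,3],[7,6,5,4,3,1,2,0,3,2,4,3,1,5,4,3,2,0,6,5,4,3,1,2,3,4,5,6,7,6,5,4,3,1,2,0,3,2,4],[7,6,5,4,3,1,2,0,3,2,4,3,1,5,4,3,2,0,6,5,4,3,1,2,3,4,5,6,7,6,5,4,3,1,2,0,3,4,5],[7,6,5,4,3,1,2,0,3,2,4,3,1,5,4,3,2,0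,6,5,4,3,1,2,3,4,5,6,7,6,5,4,3,1,2,3,4,5,6],[7,6,5,4,3,1,2,0,3,2,4,3,1,5,4,3,2,0,6,5,4,3,1,2,3,4,5,7,6,5,4,3,1,2,0,3,2,4,3],[7,6,5,4,3,1,2,0,3,2,4,3,1,5,4,3,2,0,6,5,4,3,1,2,3,4,5,7,6,5,4,3,1,2,0,3,2,4,5],[7,6,5,4,3,1,2,0,3,2,4,3,1,5,4,3,2,0,6,5,4,3,1,2,3,4,7,6,5,4,3,1,2,0,3,2,4,3,1],[7,6,5,4,3,1,2,0,3,2,4,3,1,5,4,3,2,0,6,5,4,3,1,2,3,4,5,6,7,6,5,4,3,1,2,0,3,2,4,3],[7,6,5,4,3,1,2,0,3,2,4,3,1,5,4,3,2,0,6,5,4,3,1,2,3,4,5,6,7,6,5,4,3,1,2,0,3,2,4,5],[7,6,5,4,3,1,2,0,3,2,4,3,1,5,4,3,2,0,6,5,4,3,1,2,3,4,5,6,7,6,5,4,3,1,2,0,3,4,5,6],[7,6,5,4,3,1,2,0,3,2,4,3,1,5,4,3,2,0,6,5,4,3,1,2,3,4,5,7,6,5,4,3,1,2,0,3,2,4,3,1],[7,6,5,4,3,1,2,0,3,2,4,3,1,5,4,3,2,0,6,5,4,3,1,2,3,4,5,7,6,5,4,3,1,2,0,3,2,4,3,5],[7,6,5,4,3,1,2,0,3,2,4,3,1,5,4,3,2,0,6,5,4,3,1,2,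3,4,5,6,7,6,5,4,3,1,2,0,3,2,4,3,1],[7,6,5,4,3,1,2,0,3,2,4,3,1,5,4,3,2,0,6,5,4,3,1,2,3,4,5,6,7,6,5,4,3,1,2,0,3,2,4,3,5],[7,6,5,4,3,1,2,0,3,2,4,3,1,5,4,3,2,0,6,5,4,3,1,2,3,4,5,6,7,6,5,4,3,1,2,0,3,2,4,5,6],[7,6,5,4,3,1,2,0,3,2,4,3,1,5,4,3,2,0,6,5,4,3,1,2,3,4,5,7,6,5,4,3,1,2,0,3,2,4,3,1,5],[7,6,5,4,3,1,2,0,3,2,4,3,1,5,4,3,2,0,6,5,4,3,1,2,3,4,5,7,6,5,4,3,1,2,0,3,2,4,3,5,4],[7,6,5,4,3,1,2,0,3,2,4,3,1,5,4,3,2,0,6,5,4,3,1,2,3,4,5,6,7,6,5,4,3,1,2,0,3,2,4,3,1,5],[7,6,5,4,3,1,2,0,3,2,4,3,1,5,4,3,2,0,6,5,4,3,1,2,3,4,5,6,7,6,5,4,3,1,2,0,3,2,4,3,5,4],[7,6,5,4,3,1,2,0,3,2,4,3,1,5,4,3,2,0,6,5,4,3,1,2,3,4,5,6,7,6,5,4,3,1,2,0,3,2,4,3,5,6],[7,6,5,4,3,1,2,0,3,2,4,3,1,5,4,3,2,0,6,5,4,3,1,2,3,4,5,7,6,5,4,3,1,2,0,3,2,4,3,1,5,4],[7,6,5,4,3,1,2,0,3,2,4,3,1,5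,4,3,2,0,6,5,4,3,1,2,3,4,5,6,7,6,5,4,3,1,2,0,3,2,4,3,1,5,4],[7,6,5,4,3,1,2,0,3,2,4,3,1,5,4,3,2,0,6,5,4,3,1,2,3,4,5,6,7,6,5,4,3,1,2,0,3,2,4,3,1,5,6],[7,6,5,4,3,1,2,0,3,2,4,3,1,5,4,3,2,0,6,5,4,3,1,2,3,4,5,6,7,6,5,4,3,1,2,0,3,2,4,3,5,4,6],[7,6,5,4,3,1,2,0,3,2,4,3,1,5,4,3,2,0,6,5,4,3,1,2,3,4,5,7,6,5,4,3,1,2,0,3,2,4,3,1,5,4,3],[7,6,5,4,3,1,2,0,3,2,4,3,1,5,4,3,2,0,6,5,4,3,1,2,3,4,5,6,7,6,5,4,3,1,2,0,3,2,4,3,1,5,4,3],[7,6,5,4,3,1,2,0,3,2,4,3,1,5,4,3,2,0,6,5,4,3,1,2,3,4,5,6,7,6,5,4,3,1,2,0,3,2,4,3,1,5,4,6],[7,6,5,4,3,1,2,0,3,2,4,3,1,5,4,3,2,0,6,5,4,3,1,2,3,4,5,6,7,6,5,4,3,1,2,0,3,2,4,3,5,4,6,5],[7,6,5,4,3,1,2,0,3,2,4,3,1,5,4,3,2,0,6,5,4,3,1,2,3,4,5,7,6,5,4,3,1,2,0,3,2,4,3,1,5,4,3,2],[7,6,5,4,3,1,2,0,3,2,4,3,1,5,4,3,2,0,6,5,4,3,1,2,3,4,5,6,7,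6,5,4,3,1,2,0,3,2,4,3,1,5,4,3,2],[7,6,5,4,3,1,2,0,3,2,4,3,1,5,4,3,2,0,6,5,4,3,1,2,3,4,5,6,7,6,5,4,3,1,2,0,3,2,4,3,1,5,4,3,6],[7,6,5,4,3,1,2,0,3,2,4,3,1,5,4,3,2,0,6,5,4,3,1,2,3,4,5,6,7,6,5,4,3,1,2,0,3,2,4,3,1,5,4,6,5],[7,6,5,4,3,1,2,0,3,2,4,3,1,5,4,3,2,0,6,5,4,3,1,2,3,4,5,7,6,5,4,3,1,2,0,3,2,4,3,1,5,4,3,2,0],[7,6,5,4,3,1,2,0,3,2,4,3,1,5,4,3,2,0,6,5,4,3,1,2,3,4,5,6,7,6,5,4,3,1,2,0,3,2,4,3,1,5,4,3,2,0],[7,6,5,4,3,1,2,0,3,2,4,3,1,5,4,3,2,0,6,5,4,3,1,2,3,4,5,6,7,6,5,4,3,1,2,0,3,2,4,3,1,5,4,3,2,6],[7,6,5,4,3,1,2,0,3,2,4,3,1,5,4,3,2,0,6,5,4,3,1,2,3,4,5,6,7,6,5,4,3,1,2,0,3,2,4,3,1,5,4,3,6,5],[7,6,5,4,3,1,2,0,3,2,4,3,1,5,4,3,2,0,6,5,4,3,1,2,3,4,5,6,7,6,5,4,3,1,2,0,3,2,4,3,1,5,4,3,2,0,6],[7,6,5,4,3,1,2,0,3,2,4,3,1,5,4,3,2,0,6,5,4,3,1,2,3,4,5,6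,7,6,5,4,3,1,2,0,3,2,4,3,1,5,4,3,2,6,5],[7,6,5,4,3,1,2,0,3,2,4,3,1,5,4,3,2,0,6,5,4,3,1,2,3,4,5,6,7,6,5,4,3,1,2,0,3,2,4,3,1,5,4,3,6,5,4],[7,6,5,4,3,1,2,0,3,2,4,3,1,5,4,3,2,0,6,5,4,3,1,2,3,4,5,6,7,6,5,4,3,1,2,0,3,2,4,3,1,5,4,3,2,0,6,5],[7,6,5,4,3,1,2,0,3,2,4,3,1,5,4,3,2,0,6,5,4,3,1,2,3,4,5,6,7,6,5,4,3,1,2,0,3,2,4,3,1,5,4,3,2,6,5,4],[7,6,5,4,3,1,2,0,3,2,4,3,1,5,4,3,2,0,6,5,4,3,1,2,3,4,5,6,7,6,5,4,3,1,2,0,3,2,4,3,1,5,4,3,2,0,6,5,4],[7,6,5,4,3,1,2,0,3,2,4,3,1,5,4,3,2,0,6,5,4,3,1,2,3,4,5,6,7,6,5,4,3,1,2,0,3,2,4,3,1,5,4,3,2,6,5,4,3],[7,6,5,4,3,1,2,0,3,2,4,3,1,5,4,3,2,0,6,5,4,3,1,2,3,4,5,6,7,6,5,4,3,1,2,0,3,2,4,3,1,5,4,3,2,0,6,5,4,3],[7,6,5,4,3,1,2,0,3,2,4,3,1,5,4,3,2,0,6,5,4,3,1,2,3,4,5,6,7,6,5,4,3,1,2,0,3,2,4,3,1,5,4,3,2,6,5,4,3,1],[7,6,5,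4,3,1,2,0,3,2,4,3,1,5,4,3,2,0,6,5,4,3,1,2,3,4,5,6,7,6,5,4,3,1,2,0,3,2,4,3,1,5,4,3,2,0,6,5,4,3,1],[7,6,5,4,3,1,2,0,3,2,4,3,1,5,4,3,2,0,6,5,4,3,1,2,3,4,5,6,7,6,5,4,3,1,2,0,3,2,4,3,1,5,4,3,2,0,6,5,4,3,2],[7,6,5,4,3,1,2,0,3,2,4,3,1,5,4,3,2,0,6,5,4,3,1,2,3,4,5,6,7,6,5,4,3,1,2,0,3,2,4,3,1,5,4,3,2,0,6,5,4,3,1,2],[7,6,5,4,3,1,2,0,3,2,4,3,1,5,4,3,2,0,6,5,4,3,1,2,3,4,5,6,7,6,5,4,3,1,2,0,3,2,4,3,1,5,4,3,2,0,6,5,4,3,1,2,3],[7,6,5,4,3,1,2,0,3,2,4,3,1,5,4,3,2,0,6,5,4,3,1,2,3,4,5,6,7,6,5,4,3,1,2,0,3,2,4,3,1,5,4,3,2,0,6,5,4,3,1,2,3,4],[7,6,5,4,3,1,2,0,3,2,4,3,1,5,4,3,2,0,6,5,4,3,1,2,3,4,5,6,7,6,5,4,3,1,2,0,3,2,4,3,1,5,4,3,2,0,6,5,4,3,1,2,3,4,5],[7,6,5,4,3,1,2,0,3,2,4,3,1,5,4,3,2,0,6,5,4,3,1,2,3,4,5,6,7,6,5,4,3,1,2,0,3,2,4,3,1,5,4,3,2,0,6,5,4,3,1,2,3,4,5,6],[7,6,5,4,3,1,2,0,3,2,4,3,1,5,4,3,2,0,6,5,4,3,1,2,3,4,5,6,7,6,5,4,3,1,2,0,3,2,4,3,1,5,4,3,2,0,6,5,4,3,1,2,3,4,5,6,7]],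
  [[(0,0,[2]),(0,0,[2]),(0,0,[2]),(0,0,[2]),(0,0,[2]),(0,0,[2]),(0,0,[2]),(1,0,[0])],[(1,33,[4,0,7,0,2]),(1,64,[4,1,7,0,2]),(1,95,[4,2,7,0,2]),(1,118,[4,3,7,0,2]),(1,143,[4,4,7,0,2]),(1,168,[4,5,7,0,2]),(2,0,[0]),(0,0,[1])],[(2,181,[4,6,0,1,1]),(2,182,[4,6,1,1,1]),(2,193,[4,6,2,1,1]),(2,198,[4,6,3,1,1]),(2,205,[4,6,4,1,1]),(3,0,[0]),(1,0,[1]),(2,217,[4,6,7,0,3])],[(3,249,[4,0,5,2,2]),(3,254,[4,1,5,2,2]),(3,275,[4,2,5,2,2]),(3,292,[4,3,5,2,2]),(4,0,[0]),(2,0,[1]),(3,214,[4,6,5,1,2]),(3,228,[4,7,5,2,2])],[(4,301,[4,4,0,3,1]),(4,302,[4,4,1,3,1]),(4,309,[4,4,2,3,1]),(5,0,[0]),(3,0,[1]),(4,317,[4,4,5,2,3]),(4,320,[4,4,6,3,1]),(4,323,[4,4,7,3,1])],[(5,351,[4,0,3,4,2]),(6,0,[0]),(7,0,[0]),(4,0,[1]),(5,314,[4,4,3,3,2]),(5,332,[4,5,3,4,2]),(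5,335,[4,6,3,4,2]),(5,338,[4,7,3,4,2])],[(6,356,[4,1,0,5,1]),(5,0,[1]),(8,0,[0]),(6,357,[4,1,3,4,3]),(6,360,[4,1,4,5,1]),(6,363,[4,1,5,5,1]),(6,366,[4,1,6,5,1]),(6,369,[4,1,7,5,1])],[(9,0,[0]),(8,39,[3]),(5,0,[1]),(7,374,[4,2,3,4,3]),(7,379,[4,2,4,5,1]),(7,386,[4,2,5,5,1]),(7,393,[4,2,6,5,1]),(7,400,[4,2,7,5,1])],[(10,0,[0]),(7,38,[4,1,2,5,2]),(6,0,[1]),(11,0,[0]),(8,380,[4,2,4,6,1]),(8,387,[4,2,5,6,1]),(8,394,[4,2,6,6,1]),(8,401,[4,2,7,6,1])],[(7,0,[1]),(10,231,[4,0,1,7,1]),(9,372,[4,2,0,5,2]),(9,407,[4,3,0,7,2]),(9,428,[4,4,0,7,2]),(9,449,[4,5,0,7,2]),(9,475,[4,6,0,7,2]),(9,515,[4,7,0,7,2])],[(8,0,[1]),(9,232,[3]),(10,373,[4,2,0,6,2]),(12,0,[0]),(10,429,[4,4,0,8,2]),(10,450,[4,5,0,8,2]),(10,476,[4,6,0,8,2]),(10,516,[4,7,0,8,2])],[(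12,2,[3]),(11,412,[4,3,1,7,3]),(11,375,[4,2,3,6,2]),(8,0,[1]),(13,0,[0]),(11,416,[4,3,5,8,1]),(11,420,[4,3,6,8,1]),(11,424,[4,3,7,8,1])],[(11,1,[4,0,3,8,2]),(12,413,[4,3,1,9,3]),(14,0,[0]),(10,0,[1]),(15,0,[0]),(12,451,[4,5,0,11,2]),(12,477,[4,6,0,11,2]),(12,517,[4,7,0,11,2])],[(15,12,[3]),(13,434,[4,4,1,11,1]),(13,381,[4,2,4,11,2]),(13,414,[4,3,4,8,2]),(11,0,[1]),(16,0,[0]),(13,441,[4,4,6,11,1]),(13,445,[4,4,7,11,1])],[(14,573,[4,0,2,11,2]),(14,601,[4,1,2,12,2]),(12,0,[1]),(14,376,[4,2,3,10,3]),(17,0,[0]),(14,460,[4,5,2,12,2]),(14,489,[4,6,2,12,2]),(14,534,[4,7,2,12,2])],[(13,11,[4,0,4,11,2]),(15,435,[4,4,1,12,1]),(17,74,[3]),(15,437,[4,4,3,10,3]),(12,0,[1]),(18,0,[0]),(15,478,[4,6,0,13,2]),(15,518,[4,7,0,13,2])],[(18,20,[3]),(16,45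8,[4,5,1,13,1]),(16,388,[4,2,5,13,2]),(16,417,[4,3,5,13,2]),(16,438,[4,4,5,11,2]),(13,0,[1]),(19,0,[0]),(16,471,[4,5,7,13,1])],[(17,574,[4,0,2,13,2]),(17,602,[4,1,2,15,2]),(15,73,[4,2,4,12,2]),(20,0,[0]),(14,0,[1]),(21,0,[0]),(17,490,[4,6,2,15,2]),(17,535,[4,7,2,15,2])],[(16,19,[4,0,5,13,2]),(18,459,[4,5,1,15,1]),(21,82,[3]),(18,463,[4,5,3,15,1]),(18,465,[4,5,4,12,3]),(15,0,[1]),(22,0,[0]),(18,519,[4,7,0,16,2])],[(22,26,[3]),(19,487,[4,6,1,16,1]),(19,395,[4,2,6,16,2]),(19,421,[4,3,6,16,2]),(19,442,[4,4,6,16,2]),(19,467,[4,5,6,13,2]),(16,0,[1]),(23,0,[0])],[(20,580,[4,0,3,17,2]),(24,0,[0]),(20,632,[4,2,3,15,2]),(17,0,[1]),(20,415,[4,3,4,14,3]),(25,0,[0]),(20,496,[4,6,3,17,2]),(20,543,[4,7,3,17,2])],[(21,575,[4,0,2,16,2]),(21,603,[4,1,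2,18,2]),(18,81,[4,2,5,15,2]),(25,105,[3]),(21,466,[4,5,4,14,3]),(17,0,[1]),(26,0,[0]),(21,536,[4,7,2,18,2])],[(19,25,[4,0,6,16,2]),(22,488,[4,6,1,18,1]),(26,88,[3]),(22,497,[4,6,3,18,1]),(22,500,[4,6,4,18,1]),(22,504,[4,6,5,15,3]),(18,0,[1]),(27,0,[0])],[(27,35,[3]),(23,532,[4,7,1,19,1]),(23,402,[4,2,7,19,2]),(23,425,[4,3,7,19,2]),(23,446,[4,4,7,19,2]),(23,472,[4,5,7,19,2]),(23,508,[4,6,7,16,2]),(19,0,[1])],[(24,591,[4,1,0,20,1]),(20,0,[1]),(24,770,[4,1,2,20,1]),(24,606,[4,1,3,17,3]),(24,436,[4,4,1,20,2]),(28,0,[0]),(24,612,[4,1,6,20,1]),(24,619,[4,1,7,20,1])],[(25,581,[4,0,3,21,2]),(28,55,[3]),(25,633,[4,2,3,18,2]),(21,104,[4,3,5,17,2]),(29,0,[0]),(20,0,[1]),(30,0,[0]),(25,544,[4,7,3,21,2])],[(26,576,[4,0,2,19,2]),(26,604,[4,1,2,22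,2]),(22,87,[4,2,6,18,2]),(30,111,[3]),(26,501,[4,6,4,21,1]),(26,505,[4,6,5,17,3]),(21,0,[1]),(31,0,[0])],[(23,34,[4,0,7,19,2]),(27,533,[4,7,1,22,1]),(31,97,[3]),(27,545,[4,7,3,22,1]),(27,552,[4,7,4,22,1]),(27,557,[4,7,5,22,1]),(27,565,[4,7,6,18,3]),(22,0,[1])],[(28,592,[4,1,0,25,1]),(25,54,[4,1,5,20,2]),(28,771,[4,1,2,25,1]),(28,607,[4,1,3,21,3]),(32,0,[0]),(24,0,[1]),(33,0,[0]),(28,620,[4,1,7,25,1])],[(29,584,[4,0,4,25,2]),(32,129,[4,4,1,25,1]),(29,636,[4,2,4,25,2]),(29,654,[4,3,4,21,2]),(25,0,[1]),(29,439,[4,4,5,20,3]),(34,0,[0]),(29,553,[4,7,4,25,2])],[(30,582,[4,0,3,26,2]),(33,61,[3]),(30,634,[4,2,3,22,2]),(26,110,[4,3,6,21,2]),(34,136,[3]),(30,506,[4,6,5,20,3]),(25,0,[1]),(35,0,[0])],[(31,577,[4,0,2,23,2]),(31,605,[4,1,2,27,2])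,(27,96,[4,2,7,22,2]),(35,120,[3]),(31,554,[4,7,4,26,1]),(31,558,[4,7,5,26,1]),(31,566,[4,7,6,21,3]),(26,0,[1])],[(32,593,[4,1,0,29,1]),(29,130,[3]),(32,772,[4,1,2,29,1]),(36,0,[0]),(28,0,[1]),(32,440,[4,4,5,24,3]),(37,0,[0]),(32,621,[4,1,7,29,1])],[(33,594,[4,1,0,30,1]),(30,60,[4,1,6,25,2]),(33,773,[4,1,2,30,1]),(33,608,[4,1,3,26,3]),(37,138,[3]),(33,610,[4,1,5,30,1]),(28,0,[1]),(38,0,[0])],[(34,585,[4,0,4,30,2]),(37,183,[4,6,1,29,1]),(34,637,[4,2,4,30,2]),(34,655,[4,3,4,26,2]),(30,135,[4,4,6,25,2]),(39,0,[0]),(29,0,[1]),(40,0,[0])],[(35,583,[4,0,3,31,2]),(38,66,[3]),(35,635,[4,2,3,27,2]),(31,119,[4,3,7,26,2]),(40,145,[3]),(35,559,[4,7,5,30,1]),(35,567,[4,7,6,25,3]),(30,0,[1])],[(36,648,[4,3,0,32,1]),(36,780,[4,1,3,29,2]),(41,0,[0])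,(32,0,[1]),(36,656,[4,3,4,28,3]),(36,464,[4,5,3,32,2]),(42,0,[0]),(36,665,[4,3,7,32,1])],[(37,595,[4,1,0,34,1]),(34,184,[3]),(37,774,[4,1,2,34,1]),(42,113,[3]),(33,137,[4,4,6,28,2]),(43,0,[0]),(32,0,[1]),(44,0,[0])],[(38,596,[4,1,0,35,1]),(35,65,[4,1,7,30,2]),(38,775,[4,1,2,35,1]),(38,609,[4,1,3,31,3]),(44,147,[3]),(38,611,[4,1,5,35,1]),(38,613,[4,1,6,35,1]),(33,0,[1])],[(39,587,[4,0,5,34,2]),(43,256,[3]),(39,639,[4,2,5,34,2]),(39,660,[4,3,5,34,2]),(39,676,[4,4,5,30,2]),(34,0,[1]),(39,468,[4,5,6,29,3]),(45,0,[0])],[(40,586,[4,0,4,35,2]),(44,222,[4,7,1,34,1]),(40,638,[4,2,4,35,2]),(40,657,[4,3,4,31,2]),(35,144,[4,4,7,30,2]),(45,170,[3]),(40,568,[4,7,6,29,3]),(34,0,[1])],[(46,0,[0]),(41,795,[4,2,1,36,1]),(36,0,[1]),(41,805,[4,2,3,32,3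]),(41,673,[4,4,2,36,2]),(41,507,[4,6,5,41,5]),(47,0,[0]),(41,738,[4,6,7,41,5])],[(42,649,[4,3,0,37,1]),(42,781,[4,1,3,34,2]),(47,90,[3]),(37,112,[4,3,6,32,2]),(42,658,[4,3,4,33,3]),(48,0,[0]),(36,0,[1]),(49,0,[0])],[(43,597,[4,1,0,39,1]),(39,255,[4,1,5,34,2]),(43,776,[4,1,2,39,1]),(48,164,[4,5,3,37,1]),(43,677,[4,4,5,33,2]),(37,0,[1]),(43,469,[4,5,6,32,3]),(50,0,[0])],[(44,598,[4,1,0,40,1]),(40,223,[3]),(44,777,[4,1,2,40,1]),(49,122,[3]),(38,146,[4,4,7,33,2]),(50,172,[3]),(44,614,[4,1,6,40,1]),(37,0,[1])],[(45,588,[4,0,5,40,2]),(50,258,[3]),(45,640,[4,2,5,40,2]),(45,661,[4,3,5,40,2]),(45,678,[4,4,5,35,2]),(40,169,[4,5,7,34,2]),(51,0,[0]),(39,0,[1])],[(41,0,[1]),(46,1004,[4,0,1,41,1]),(46,757,[4,0,2,36,3]),(46,825,[4,3,0,41,2]),(46,7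22,[4,6,4,46,3]),(46,589,[4,0,5,41,1]),(52,0,[0]),(46,740,[4,7,0,41,2])],[(52,28,[3]),(47,796,[4,2,1,42,1]),(42,89,[4,2,6,36,2]),(47,806,[4,2,3,37,3]),(47,674,[4,4,2,42,2]),(53,0,[0]),(41,0,[1]),(54,0,[0])],[(48,650,[4,3,0,43,1]),(48,782,[4,1,3,39,2]),(53,160,[4,5,2,42,1]),(43,165,[3]),(55,0,[0]),(42,0,[1]),(48,470,[4,5,6,36,3]),(56,0,[0])],[(49,651,[4,3,0,44,1]),(49,783,[4,1,3,40,2]),(54,99,[3]),(44,121,[4,3,7,37,2]),(49,659,[4,3,4,38,3]),(56,174,[3]),(49,662,[4,3,6,44,1]),(42,0,[1])],[(50,599,[4,1,0,45,1]),(45,257,[4,1,5,40,2]),(50,778,[4,1,2,45,1]),(56,226,[4,7,3,43,1]),(50,679,[4,4,5,38,2]),(44,171,[4,5,7,37,2]),(57,0,[0]),(43,0,[1])],[(51,590,[4,0,6,45,2]),(57,268,[3]),(51,641,[4,2,6,45,2]),(51,663,[4,3,6,45,2]),(51,684,[4,4,6,4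5,2]),(51,704,[4,5,6,40,2]),(45,0,[1]),(51,509,[4,6,7,39,3])],[(47,27,[4,0,6,41,2]),(52,1005,[4,0,1,47,1]),(52,758,[4,0,2,42,3]),(52,826,[4,3,0,47,2]),(52,702,[4,5,4,52,5]),(58,0,[0]),(46,0,[1]),(59,0,[0])],[(58,156,[4,5,0,47,1]),(53,797,[4,2,1,48,1]),(48,161,[3]),(53,807,[4,2,3,43,3]),(60,0,[0]),(47,0,[1]),(53,491,[4,6,2,48,2]),(61,0,[0])],[(59,37,[3]),(54,798,[4,2,1,49,1]),(49,98,[4,2,7,42,2]),(54,808,[4,2,3,44,3]),(54,675,[4,4,2,49,2]),(61,176,[3]),(54,718,[4,6,2,49,2]),(47,0,[1])],[(55,670,[4,4,0,48,1]),(55,786,[4,1,4,48,2]),(60,270,[3]),(55,839,[4,3,4,43,2]),(48,0,[1]),(55,680,[4,4,5,42,3]),(55,502,[4,6,4,48,2]),(62,0,[0])],[(56,652,[4,3,0,50,1]),(56,784,[4,1,3,45,2]),(61,224,[4,7,2,48,1]),(50,227,[3]),(62,149,[3]),(49,173,[4,5,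7,42,2]),(63,0,[0]),(48,0,[1])],[(57,600,[4,1,0,51,1]),(51,267,[4,1,6,45,2]),(57,779,[4,1,2,51,1]),(63,300,[3]),(57,685,[4,4,6,50,2]),(57,705,[4,5,6,44,2]),(50,0,[1]),(57,510,[4,6,7,43,3])],[(53,157,[3]),(58,1006,[4,0,1,53,1]),(58,759,[4,0,2,48,3]),(58,827,[4,3,0,53,2]),(64,0,[0]),(52,0,[1]),(58,569,[4,7,6,58,5]),(65,0,[0])],[(54,36,[4,0,7,47,2]),(59,1007,[4,0,1,54,1]),(59,760,[4,0,2,49,3]),(59,828,[4,3,0,54,2]),(59,703,[4,5,4,59,5]),(65,178,[3]),(59,755,[4,7,6,46,3]),(52,0,[1])],[(64,244,[3]),(60,799,[4,2,1,55,1]),(55,269,[4,2,4,48,2]),(66,0,[0]),(53,0,[1]),(60,681,[4,4,5,47,3]),(60,503,[4,6,4,53,2]),(67,0,[0])],[(65,220,[4,7,0,53,1]),(61,800,[4,2,1,56,1]),(56,225,[3]),(61,809,[4,2,3,50,3]),(67,151,[3]),(54,175,[4,5,7,47,2]),(68,0,[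0]),(53,0,[1])],[(62,671,[4,4,0,56,1]),(62,787,[4,1,4,56,2]),(67,272,[3]),(62,840,[4,3,4,50,2]),(56,148,[4,4,7,48,2]),(62,682,[4,4,5,49,3]),(69,0,[0]),(55,0,[1])],[(63,653,[4,3,0,57,1]),(63,785,[4,1,3,51,2]),(68,281,[3]),(57,299,[4,3,6,50,2]),(69,206,[4,6,4,56,1]),(63,706,[4,5,6,49,2]),(56,0,[1]),(63,511,[4,6,7,48,3])],[(60,243,[4,0,4,53,2]),(64,1008,[4,0,1,60,1]),(64,761,[4,0,2,55,3]),(70,0,[0]),(58,0,[1]),(64,695,[4,5,0,60,2]),(64,570,[4,7,6,64,5]),(71,0,[0])],[(61,221,[3]),(65,1009,[4,0,1,61,1]),(65,762,[4,0,2,56,3]),(65,829,[4,3,0,61,2]),(71,153,[3]),(59,177,[4,5,7,52,2]),(72,0,[0]),(58,0,[1])],[(70,284,[4,3,0,60,1]),(73,0,[0]),(66,1061,[4,2,3,55,2]),(60,0,[1]),(66,841,[4,3,4,53,3]),(66,698,[4,5,3,60,2]),(66,571,[4,7,6,66,5]),(74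,0,[0])],[(71,246,[3]),(67,801,[4,2,1,62,1]),(62,271,[4,2,4,56,2]),(74,124,[3]),(61,150,[4,4,7,53,2]),(67,683,[4,4,5,54,3]),(75,0,[0]),(60,0,[1])],[(72,251,[3]),(68,802,[4,2,1,63,1]),(63,280,[4,2,6,56,2]),(68,810,[4,2,3,57,3]),(75,208,[4,6,4,61,1]),(68,730,[4,6,5,54,3]),(61,0,[1]),(68,512,[4,6,7,53,3])],[(69,672,[4,4,0,63,1]),(69,788,[4,1,4,63,2]),(75,283,[3]),(69,842,[4,3,4,57,2]),(63,207,[3]),(76,0,[0]),(62,0,[1]),(69,513,[4,6,7,55,3])],[(66,285,[3]),(77,0,[0]),(78,0,[0]),(64,0,[1]),(70,843,[4,3,4,58,3]),(70,699,[4,5,3,64,2]),(70,572,[4,7,6,70,5]),(79,0,[0])],[(67,245,[4,0,4,61,2]),(71,1010,[4,0,1,67,1]),(71,763,[4,0,2,62,3]),(79,126,[3]),(65,152,[4,4,7,58,2]),(71,696,[4,5,0,67,2]),(80,0,[0]),(64,0,[1])],[(68,250,[4,0,6,61,2]),(72,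1011,[4,0,1,68,1]),(72,764,[4,0,2,63,3]),(72,830,[4,3,0,68,2]),(80,210,[4,6,4,65,1]),(72,767,[4,0,5,68,1]),(65,0,[1]),(72,520,[4,7,0,68,2])],[(77,342,[3]),(66,0,[1]),(73,1201,[4,1,2,66,1]),(73,831,[4,3,1,60,2]),(73,862,[4,4,1,66,2]),(73,749,[4,7,5,73,3]),(73,615,[4,1,6,66,1]),(81,0,[0])],[(79,286,[4,3,0,67,1]),(81,68,[3]),(74,1062,[4,2,3,62,2]),(67,123,[4,3,7,60,2]),(74,844,[4,3,4,61,3]),(74,700,[4,5,3,67,2]),(82,0,[0]),(66,0,[1])],[(80,253,[3]),(75,803,[4,2,1,69,1]),(69,282,[4,2,6,62,2]),(82,199,[4,6,3,67,1]),(68,209,[3]),(83,0,[0]),(67,0,[1]),(75,514,[4,6,7,60,3])],[(76,697,[4,5,0,69,1]),(76,789,[4,1,5,69,2]),(83,330,[4,5,2,69,1]),(76,850,[4,3,5,69,2]),(76,887,[4,4,5,63,2]),(69,0,[1]),(76,707,[4,5,6,62,3]),(76,560,[4,7,5,69,2])],[(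73,341,[4,0,1,66,2]),(70,0,[1]),(84,0,[0]),(77,992,[4,7,3,77,3]),(77,863,[4,4,1,70,2]),(77,750,[4,7,5,77,3]),(77,616,[4,1,6,70,1]),(85,0,[0])],[(78,1159,[4,0,2,66,2]),(84,41,[3]),(70,0,[1]),(78,811,[4,2,3,64,3]),(78,873,[4,4,2,70,2]),(78,751,[4,7,5,78,3]),(78,642,[4,2,6,70,1]),(86,0,[0])],[(74,287,[3]),(85,70,[3]),(86,101,[3]),(71,125,[4,3,7,64,2]),(79,845,[4,3,4,65,3]),(79,701,[4,5,3,71,2]),(87,0,[0]),(70,0,[1])],[(75,252,[4,0,6,67,2]),(80,1012,[4,0,1,75,1]),(80,765,[4,0,2,69,3]),(87,201,[4,6,3,71,1]),(72,211,[3]),(88,0,[0]),(71,0,[1]),(80,521,[4,7,0,75,2])],[(85,344,[3]),(74,67,[4,1,7,66,2]),(81,1202,[4,1,2,74,1]),(81,832,[4,3,1,67,2]),(81,864,[4,4,1,74,2]),(81,731,[4,6,5,81,5]),(89,0,[0]),(73,0,[1])],[(87,288,[4,3,0,75,1]),(89,185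,[4,6,1,74,1]),(82,1063,[4,2,3,69,2]),(75,200,[3]),(82,846,[4,3,4,68,3]),(90,0,[0]),(74,0,[1]),(82,546,[4,7,3,75,2])],[(88,326,[4,5,0,75,1]),(83,804,[4,2,1,76,1]),(76,331,[3]),(90,294,[3]),(83,888,[4,4,5,68,2]),(75,0,[1]),(83,708,[4,5,6,67,3]),(83,561,[4,7,5,75,2])],[(84,1185,[4,1,0,78,1]),(78,40,[4,1,2,70,2]),(77,0,[1]),(91,0,[0]),(84,874,[4,4,2,77,2]),(84,752,[4,7,5,84,3]),(84,643,[4,2,6,77,1]),(92,0,[0])],[(81,343,[4,0,1,74,2]),(79,69,[4,1,7,70,2]),(92,103,[3]),(85,954,[4,6,3,85,3]),(85,865,[4,4,1,79,2]),(85,732,[4,6,5,85,5]),(93,0,[0]),(77,0,[1])],[(86,1160,[4,0,2,74,2]),(92,72,[3]),(79,100,[4,2,7,70,2]),(86,812,[4,2,3,71,3]),(86,875,[4,4,2,79,2]),(86,733,[4,6,5,86,5]),(94,0,[0]),(78,0,[1])],[(82,289,[3]),(93,187,[4,6,1,79,1]),(9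4,194,[4,6,2,79,1]),(80,202,[3]),(87,847,[4,3,4,72,3]),(95,0,[0]),(79,0,[1]),(87,547,[4,7,3,80,2])],[(83,327,[3]),(88,1013,[4,0,1,83,1]),(88,766,[4,0,2,76,3]),(95,296,[3]),(88,889,[4,4,5,72,2]),(80,0,[1]),(88,709,[4,5,6,71,3]),(88,562,[4,7,5,80,2])],[(93,346,[3]),(82,186,[3]),(89,1203,[4,1,2,82,1]),(89,833,[4,3,1,75,2]),(89,866,[4,4,1,82,2]),(96,0,[0]),(81,0,[1]),(89,622,[4,1,7,82,1])],[(95,328,[4,5,0,82,1]),(96,260,[3]),(90,1064,[4,2,3,76,2]),(83,293,[4,3,5,75,2]),(97,0,[0]),(82,0,[1]),(90,710,[4,5,6,74,3]),(90,563,[4,7,5,82,2])],[(91,1236,[4,3,0,84,1]),(91,834,[4,3,1,78,3]),(91,1065,[4,2,3,77,2]),(84,0,[1]),(98,0,[0]),(91,753,[4,7,5,91,3]),(91,664,[4,3,6,84,1]),(99,0,[0])],[(92,1186,[4,1,0,86,1]),(86,71,[4,1,7,78,2]),(85,102,[4,2,7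,77,2]),(99,128,[3]),(92,876,[4,4,2,85,2]),(92,734,[4,6,5,92,5]),(100,0,[0]),(84,0,[1])],[(89,345,[4,0,1,82,2]),(87,188,[3]),(100,196,[4,6,2,85,1]),(93,914,[4,5,3,93,3]),(93,867,[4,4,1,87,2]),(101,0,[0]),(85,0,[1]),(93,623,[4,1,7,87,1])],[(94,1161,[4,0,2,82,2]),(100,189,[4,6,1,86,1]),(87,195,[3]),(94,813,[4,2,3,80,3]),(94,877,[4,4,2,87,2]),(102,0,[0]),(86,0,[1]),(94,644,[4,2,7,87,1])],[(90,329,[3]),(101,262,[3]),(102,277,[3]),(88,295,[4,3,5,80,2]),(103,0,[0]),(87,0,[1]),(95,711,[4,5,6,79,3]),(95,564,[4,7,5,87,2])],[(101,348,[3]),(90,259,[4,1,5,82,2]),(96,1204,[4,1,2,90,1]),(96,835,[4,3,1,83,2]),(104,0,[0]),(89,0,[1]),(96,716,[4,6,1,90,2]),(96,624,[4,1,7,90,1])],[(103,353,[3]),(104,303,[4,4,1,90,1]),(97,1077,[4,2,4,90,2]),(97,1115,[4,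3,4,83,2]),(90,0,[1]),(97,890,[4,4,5,82,3]),(97,723,[4,6,4,90,2]),(97,687,[4,4,7,90,1])],[(98,1254,[4,4,0,91,1]),(98,868,[4,4,1,91,1]),(98,1078,[4,2,4,91,2]),(98,881,[4,4,3,84,3]),(91,0,[1]),(105,0,[0]),(98,686,[4,4,6,91,1]),(106,0,[0])],[(99,1237,[4,3,0,92,1]),(99,836,[4,3,1,86,3]),(99,1066,[4,2,3,85,2]),(92,127,[4,3,7,84,2]),(106,155,[3]),(99,735,[4,6,5,99,5]),(107,0,[0]),(91,0,[1])],[(100,1187,[4,1,0,94,1]),(94,190,[3]),(93,197,[3]),(107,203,[4,6,3,92,1]),(100,878,[4,4,2,93,2]),(108,0,[0]),(92,0,[1]),(100,645,[4,2,7,93,1])],[(96,347,[4,0,1,90,2]),(95,261,[4,1,5,87,2]),(108,279,[3]),(101,884,[4,4,3,101,5]),(109,0,[0]),(93,0,[1]),(101,717,[4,6,1,95,2]),(101,625,[4,1,7,95,1])],[(102,1162,[4,0,2,90,2]),(108,264,[3]),(95,276,[4,2,5,87,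2]),(102,814,[4,2,3,88,3]),(110,0,[0]),(94,0,[1]),(102,719,[4,6,2,95,2]),(102,646,[4,2,7,95,1])],[(97,352,[4,0,4,90,2]),(109,305,[4,4,1,95,1]),(110,310,[4,4,2,95,1]),(103,1116,[4,3,4,88,2]),(95,0,[1]),(103,891,[4,4,5,87,3]),(103,724,[4,6,4,95,2]),(103,688,[4,4,7,95,1])],[(109,355,[3]),(97,304,[3]),(104,1205,[4,1,2,97,1]),(111,0,[0]),(96,0,[1]),(104,892,[4,4,5,89,3]),(104,725,[4,6,4,96,2]),(104,689,[4,4,7,96,1])],[(105,1271,[4,5,0,98,1]),(105,904,[4,5,1,98,1]),(105,1096,[4,2,5,98,2]),(105,915,[4,5,3,98,1]),(105,893,[4,4,5,91,2]),(98,0,[1]),(112,0,[0]),(113,0,[0])],[(106,1255,[4,4,0,99,1]),(106,869,[4,4,1,99,1]),(106,1079,[4,2,4,99,2]),(106,882,[4,4,3,92,3]),(99,154,[4,4,7,91,2]),(113,180,[3]),(114,0,[0]),(98,0,[1])],[(107,1238,[4,3,0,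100,1]),(107,837,[4,3,1,94,3]),(107,1067,[4,2,3,93,2]),(100,204,[3]),(114,212,[4,6,4,99,1]),(115,0,[0]),(99,0,[1]),(107,666,[4,3,7,100,1])],[(108,1188,[4,1,0,102,1]),(102,263,[4,1,5,94,2]),(101,278,[4,2,5,93,2]),(115,298,[3]),(116,0,[0]),(100,0,[1]),(108,720,[4,6,2,101,2]),(108,647,[4,2,7,101,1])],[(104,354,[4,0,4,96,2]),(103,306,[3]),(116,312,[4,4,2,101,1]),(117,0,[0]),(101,0,[1]),(109,894,[4,4,5,93,3]),(109,726,[4,6,4,101,2]),(109,690,[4,4,7,101,1])],[(110,1163,[4,0,2,97,2]),(116,307,[4,4,1,102,1]),(103,311,[3]),(118,0,[0]),(102,0,[1]),(110,895,[4,4,5,94,3]),(110,727,[4,6,4,102,2]),(110,691,[4,4,7,102,1])],[(117,408,[4,3,0,104,1]),(111,1206,[4,1,3,97,2]),(119,0,[0]),(104,0,[1]),(111,848,[4,3,4,96,3]),(111,916,[4,5,3,104,2]),(111,85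3,[4,3,6,104,1]),(111,743,[4,7,3,104,2])],[(112,1283,[4,6,0,105,1]),(112,941,[4,6,1,105,1]),(112,1106,[4,2,6,105,2]),(112,955,[4,6,3,105,1]),(112,900,[4,4,6,105,2]),(112,712,[4,5,6,98,2]),(105,0,[1]),(120,0,[0])],[(113,1272,[4,5,0,106,1]),(113,905,[4,5,1,106,1]),(113,1097,[4,2,5,106,2]),(113,917,[4,5,3,106,1]),(113,896,[4,4,5,99,2]),(106,179,[4,5,7,98,2]),(121,0,[0]),(105,0,[1])],[(114,1256,[4,4,0,107,1]),(114,870,[4,4,1,107,1]),(114,1080,[4,2,4,107,2]),(114,883,[4,4,3,100,3]),(107,213,[3]),(122,0,[0]),(106,0,[1]),(114,692,[4,4,7,107,1])],[(115,1239,[4,3,0,108,1]),(115,838,[4,3,1,102,3]),(115,1068,[4,2,3,101,2]),(108,297,[4,3,5,100,2]),(123,0,[0]),(107,0,[1]),(115,721,[4,6,3,108,2]),(115,667,[4,3,7,108,1])],[(116,1189,[4,1,0,110,1]),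(110,308,[3]),(109,313,[3]),(124,0,[0]),(108,0,[1]),(116,897,[4,4,5,100,3]),(116,728,[4,6,4,108,2]),(116,693,[4,4,7,108,1])],[(111,409,[3]),(117,1207,[4,1,3,103,2]),(125,0,[0]),(109,0,[1]),(117,861,[4,4,0,111,2]),(117,918,[4,5,3,109,2]),(117,854,[4,3,6,109,1]),(117,744,[4,7,3,109,2])],[(118,1174,[4,0,3,110,2]),(126,0,[0]),(118,1222,[4,2,3,103,2]),(110,0,[1]),(118,849,[4,3,4,102,3]),(118,919,[4,5,3,110,2]),(118,855,[4,3,6,110,1]),(118,745,[4,7,3,110,2])],[(127,0,[0]),(119,1215,[4,2,1,111,1]),(111,0,[1]),(119,1223,[4,2,3,104,3]),(119,879,[4,4,2,111,2]),(119,1098,[4,2,5,111,1]),(119,947,[4,6,2,111,2]),(119,817,[4,2,7,111,1])],[(120,1301,[4,7,0,112,1]),(120,986,[4,7,1,112,1]),(120,1107,[4,2,6,120,0]),(120,993,[4,7,3,112,1]),(120,901,[4,4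,6,120,0]),(120,713,[4,5,7,112,2]),(128,0,[0]),(112,0,[1])],[(121,1284,[4,6,0,113,1]),(121,942,[4,6,1,113,1]),(121,1100,[4,2,5,121,0]),(121,956,[4,6,3,113,1]),(121,898,[4,4,5,121,0]),(129,0,[0]),(113,0,[1]),(128,219,[3])],[(122,1273,[4,5,0,114,1]),(122,906,[4,5,1,114,1]),(122,1081,[4,2,4,122,0]),(122,920,[4,5,3,114,1]),(130,0,[0]),(114,0,[1]),(129,215,[4,6,5,106,2]),(122,714,[4,5,7,114,1])],[(123,1257,[4,4,0,115,1]),(123,871,[4,4,1,115,1]),(123,1069,[4,2,3,123,0]),(131,0,[0]),(115,0,[1]),(130,319,[3]),(123,729,[4,6,4,115,2]),(123,694,[4,4,7,115,1])],[(124,1240,[4,3,0,116,1]),(132,0,[0]),(133,0,[0]),(116,0,[1]),(131,315,[4,4,3,108,2]),(124,921,[4,5,3,116,2]),(124,856,[4,3,6,116,1]),(124,746,[4,7,3,116,2])],[(134,0,[0]),(125,1216,[4,2,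1,117,1]),(117,0,[1]),(133,378,[3]),(125,880,[4,4,2,117,2]),(125,1099,[4,2,5,117,1]),(125,948,[4,6,2,117,2]),(125,818,[4,2,7,117,1])],[(126,1190,[4,1,0,118,1]),(118,0,[1]),(126,1249,[4,3,2,126,5]),(132,359,[3]),(126,872,[4,4,1,118,2]),(126,1042,[4,1,5,118,1]),(126,943,[4,6,1,118,2]),(126,791,[4,1,7,118,1])],[(119,0,[1]),(127,1313,[4,0,1,119,1]),(134,579,[3]),(127,1241,[4,3,0,119,2]),(127,1018,[4,0,4,119,1]),(127,1148,[4,5,0,119,2]),(127,1023,[4,0,6,119,1]),(127,979,[4,7,0,119,2])],[(128,1302,[4,7,0,121,1]),(128,987,[4,7,1,121,1]),(128,1102,[4,2,5,128,0]),(128,994,[4,7,3,121,1]),(128,899,[4,4,5,128,0]),(135,0,[0]),(120,0,[1]),(121,218,[4,6,7,105,3])],[(129,1285,[4,6,0,122,1]),(129,944,[4,6,1,122,1]),(129,1082,[4,2,4,129,0]),(129,957,[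4,6,3,122,1]),(136,0,[0]),(121,0,[1]),(122,216,[3]),(135,230,[3])],[(130,1274,[4,5,0,123,1]),(130,907,[4,5,1,123,1]),(130,1070,[4,2,3,130,0]),(137,0,[0]),(122,0,[1]),(123,318,[4,4,5,107,3]),(136,321,[4,4,6,122,1]),(130,715,[4,5,7,123,1])],[(131,1258,[4,4,0,124,1]),(138,0,[0]),(139,0,[0]),(123,0,[1]),(124,316,[3]),(137,334,[3]),(131,857,[4,3,6,123,1]),(131,747,[4,7,3,123,2])],[(132,1242,[4,3,0,126,1]),(124,0,[1]),(140,0,[0]),(126,358,[4,1,3,110,3]),(138,361,[4,1,4,124,1]),(132,1043,[4,1,5,124,1]),(132,945,[4,6,1,124,2]),(132,792,[4,1,7,124,1])],[(141,0,[0]),(140,43,[3]),(124,0,[1]),(125,377,[4,2,3,109,3]),(139,382,[4,2,4,124,1]),(133,1101,[4,2,5,124,1]),(133,949,[4,6,2,124,2]),(133,819,[4,2,7,124,1])],[(125,0,[1]),(134,1314,[4,0,1,125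,1]),(127,578,[4,0,2,111,3]),(141,411,[3]),(134,1019,[4,0,4,125,1]),(134,1149,[4,5,0,125,2]),(134,1024,[4,0,6,125,1]),(134,980,[4,7,0,125,2])],[(135,1303,[4,7,0,129,1]),(135,988,[4,7,1,129,1]),(135,1083,[4,2,4,135,0]),(135,995,[4,7,3,129,1]),(142,0,[0]),(128,0,[1]),(135,736,[4,6,5,120,2]),(129,229,[4,7,5,121,2])],[(136,1286,[4,6,0,130,1]),(136,946,[4,6,1,130,1]),(136,1071,[4,2,3,136,0]),(143,0,[0]),(129,0,[1]),(136,737,[4,6,5,123,3]),(130,322,[3]),(142,324,[4,4,7,129,1])],[(137,1275,[4,5,0,131,1]),(144,0,[0]),(145,0,[0]),(130,0,[1]),(137,926,[4,5,4,124,3]),(131,333,[4,5,3,123,2]),(143,337,[3]),(137,748,[4,7,3,130,2])],[(138,1259,[4,4,0,132,1]),(131,0,[1]),(146,0,[0]),(138,886,[4,4,3,126,3]),(132,362,[3]),(144,364,[4,1,5,131,1]),(138,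929,[4,5,6,138,5]),(138,793,[4,1,7,131,1])],[(147,0,[0]),(146,45,[3]),(131,0,[1]),(139,885,[4,4,3,125,3]),(133,383,[3]),(145,389,[4,2,5,131,1]),(139,930,[4,5,6,139,5]),(139,820,[4,2,7,131,1])],[(148,0,[0]),(133,42,[4,1,2,124,2]),(132,0,[1]),(140,1247,[4,3,1,125,2]),(146,384,[4,2,4,132,1]),(140,1103,[4,2,5,132,1]),(140,950,[4,6,2,132,2]),(140,821,[4,2,7,132,1])],[(133,0,[1]),(148,233,[4,0,1,133,1]),(141,1250,[4,3,2,127,3]),(134,410,[4,3,0,125,2]),(147,431,[3]),(141,1142,[4,4,5,141,5]),(141,962,[4,6,4,141,0]),(141,981,[4,7,0,133,2])],[(142,1304,[4,7,0,136,1]),(142,989,[4,7,1,136,1]),(142,1073,[4,2,3,142,0]),(149,0,[0]),(135,0,[1]),(142,754,[4,7,5,136,1]),(142,739,[4,6,7,130,2]),(136,325,[3])],[(143,1287,[4,6,0,137,1]),(150,0,[0]),(151,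0,[0]),(136,0,[1]),(143,961,[4,6,4,137,1]),(143,851,[4,3,5,136,1]),(137,336,[4,6,3,130,2]),(149,340,[3])],[(144,1276,[4,5,0,138,1]),(137,0,[1]),(152,0,[0]),(144,922,[4,5,3,138,1]),(144,1033,[4,1,4,137,1]),(138,365,[3]),(150,367,[4,1,6,137,1]),(144,794,[4,1,7,137,1])],[(153,0,[0]),(152,47,[3]),(137,0,[1]),(145,923,[4,5,3,139,1]),(145,1084,[4,2,4,137,1]),(139,390,[3]),(151,396,[4,2,6,137,1]),(145,822,[4,2,7,137,1])],[(154,0,[0]),(139,44,[4,1,2,131,2]),(138,0,[1]),(155,0,[0]),(140,385,[3]),(152,391,[4,2,5,138,1]),(146,931,[4,5,6,146,5]),(146,823,[4,2,7,138,1])],[(139,0,[1]),(154,235,[4,0,1,139,1]),(147,1262,[4,4,2,141,1]),(147,1014,[4,0,3,139,1]),(141,430,[4,4,0,133,2]),(153,453,[3]),(147,934,[4,6,0,139,2]),(147,982,[4,7,0,139,2])],[(14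0,0,[1]),(141,234,[3]),(148,1320,[4,0,2,132,3]),(148,1264,[4,4,3,148,5]),(154,433,[3]),(148,1143,[4,4,5,148,5]),(148,963,[4,6,4,148,0]),(148,983,[4,7,0,140,2])],[(149,1305,[4,7,0,143,1]),(156,0,[0]),(157,0,[0]),(142,0,[1]),(149,998,[4,7,4,143,1]),(149,852,[4,3,5,142,1]),(149,756,[4,7,6,137,3]),(143,339,[4,7,3,136,2])],[(150,1288,[4,6,0,144,1]),(143,0,[1]),(158,0,[0]),(150,958,[4,6,3,144,1]),(150,1034,[4,1,4,143,1]),(150,908,[4,5,1,143,2]),(144,368,[3]),(156,370,[4,1,7,143,1])],[(159,0,[0]),(158,49,[3]),(143,0,[1]),(151,959,[4,6,3,145,1]),(151,1085,[4,2,4,143,1]),(151,910,[4,5,2,143,2]),(145,397,[3]),(157,403,[4,2,7,143,1])],[(160,0,[0]),(145,46,[4,1,2,137,2]),(144,0,[1]),(161,0,[0]),(152,1086,[4,2,4,144,1]),(146,392,[3]),(158,398,[4,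2,6,144,1]),(152,824,[4,2,7,144,1])],[(145,0,[1]),(160,237,[4,0,1,145,1]),(153,1277,[4,5,2,147,1]),(153,1015,[4,0,3,145,1]),(153,1130,[4,4,0,145,2]),(147,452,[4,5,0,139,2]),(159,480,[3]),(153,972,[4,6,7,153,5])],[(146,0,[1]),(147,236,[3]),(154,1321,[4,0,2,138,3]),(162,0,[0]),(148,432,[4,4,0,140,2]),(160,455,[3]),(154,935,[4,6,0,146,2]),(154,984,[4,7,0,146,2])],[(162,4,[3]),(155,1025,[4,1,3,139,2]),(155,1072,[4,2,3,138,2]),(146,0,[1]),(155,1251,[4,3,4,140,3]),(161,418,[4,3,5,146,1]),(155,932,[4,5,6,155,5]),(155,859,[4,3,7,146,1])],[(156,1306,[4,7,0,150,1]),(149,0,[1]),(163,0,[0]),(156,996,[4,7,3,150,1]),(156,1035,[4,1,4,149,1]),(156,909,[4,5,1,149,2]),(156,790,[4,1,6,149,1]),(150,371,[3])],[(164,0,[0]),(163,51,[3]),(149,0,[1]),(157,99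7,[4,7,3,151,1]),(157,1087,[4,2,4,149,1]),(157,911,[4,5,2,149,2]),(157,815,[4,2,6,149,1]),(151,404,[3])],[(165,0,[0]),(151,48,[4,1,2,143,2]),(150,0,[1]),(166,0,[0]),(158,1088,[4,2,4,150,1]),(158,912,[4,5,2,150,2]),(152,399,[3]),(163,405,[4,2,7,150,1])],[(151,0,[1]),(165,239,[4,0,1,151,1]),(159,1290,[4,6,2,153,1]),(159,1016,[4,0,3,151,1]),(159,1131,[4,4,0,151,2]),(159,965,[4,6,5,147,3]),(153,479,[4,6,0,145,2]),(164,523,[3])],[(152,0,[1]),(153,238,[3]),(160,1322,[4,0,2,144,3]),(167,0,[0]),(160,1132,[4,4,0,152,2]),(154,454,[4,5,0,146,2]),(165,482,[3]),(160,973,[4,6,7,160,5])],[(167,6,[3]),(161,1026,[4,1,3,145,2]),(161,1074,[4,2,3,144,2]),(152,0,[1]),(168,0,[0]),(155,419,[3]),(166,422,[4,3,6,152,1]),(161,860,[4,3,7,152,1])],[(155,3,[4,0,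3,146,2]),(162,1027,[4,1,3,147,2]),(169,0,[0]),(154,0,[1]),(162,1260,[4,4,0,155,2]),(167,457,[3]),(162,936,[4,6,0,155,2]),(162,985,[4,7,0,155,2])],[(170,0,[0]),(157,50,[4,1,2,149,2]),(156,0,[1]),(171,0,[0]),(163,1089,[4,2,4,156,1]),(163,913,[4,5,2,156,2]),(163,816,[4,2,6,156,1]),(158,406,[3])],[(157,0,[1]),(170,241,[4,0,1,157,1]),(164,1307,[4,7,2,159,1]),(164,1017,[4,0,3,157,1]),(164,1133,[4,4,0,157,2]),(164,999,[4,7,5,159,1]),(164,937,[4,6,0,157,2]),(159,522,[4,7,0,151,2])],[(158,0,[1]),(159,240,[3]),(165,1323,[4,0,2,150,3]),(172,0,[0]),(165,1134,[4,4,0,158,2]),(165,966,[4,6,5,154,3]),(160,481,[4,6,0,152,2]),(170,525,[3])],[(172,8,[3]),(166,1028,[4,1,3,151,2]),(166,1075,[4,2,3,150,2]),(158,0,[1]),(173,0,[0]),(166,924,[4,5,3,158,2]),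(161,423,[3]),(171,426,[4,3,7,158,1])],[(161,5,[4,0,3,152,2]),(167,1029,[4,1,3,153,2]),(174,0,[0]),(160,0,[1]),(175,0,[0]),(162,456,[4,5,0,155,2]),(172,484,[3]),(167,974,[4,6,7,167,5])],[(175,14,[3]),(168,1036,[4,1,4,161,2]),(168,1090,[4,2,4,161,2]),(168,1117,[4,3,4,152,2]),(161,0,[1]),(168,1265,[4,4,5,155,3]),(173,443,[4,4,6,161,1]),(168,903,[4,4,7,161,1])],[(169,1164,[4,0,2,155,2]),(169,1051,[4,2,1,162,1]),(162,0,[1]),(169,1341,[4,2,3,154,3]),(169,1263,[4,4,2,162,2]),(174,462,[3]),(169,951,[4,6,2,162,2]),(169,991,[4,7,2,162,2])],[(163,0,[1]),(164,242,[3]),(170,1324,[4,0,2,156,3]),(176,0,[0]),(170,1135,[4,4,0,163,2]),(170,1000,[4,7,5,165,1]),(170,938,[4,6,0,163,2]),(165,524,[4,7,0,158,2])],[(176,10,[3]),(171,1030,[4,1,3,157,2]),(171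,1076,[4,2,3,156,2]),(163,0,[1]),(177,0,[0]),(171,925,[4,5,3,163,2]),(171,858,[4,3,6,163,1]),(166,427,[3])],[(166,7,[4,0,3,158,2]),(172,1031,[4,1,3,159,2]),(178,0,[0]),(165,0,[1]),(179,0,[0]),(172,967,[4,6,5,162,3]),(167,483,[4,6,0,161,2]),(176,527,[3])],[(179,16,[3]),(173,1037,[4,1,4,166,2]),(173,1091,[4,2,4,166,2]),(173,1118,[4,3,4,158,2]),(166,0,[1]),(180,0,[0]),(168,444,[3]),(177,447,[4,4,7,166,1])],[(174,1165,[4,0,2,161,2]),(174,1052,[4,2,1,167,1]),(167,0,[1]),(174,1342,[4,2,3,160,3]),(181,0,[0]),(169,461,[4,5,2,162,2]),(178,493,[3]),(174,975,[4,6,7,174,5])],[(168,13,[4,0,4,161,2]),(175,1038,[4,1,4,167,2]),(181,76,[3]),(175,1139,[4,4,3,160,3]),(167,0,[1]),(175,1266,[4,4,5,162,3]),(179,486,[3]),(175,976,[4,6,7,175,5])],[(171,9,[4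,0,3,163,2]),(176,1032,[4,1,3,164,2]),(182,0,[0]),(170,0,[1]),(183,0,[0]),(176,1001,[4,7,5,172,1]),(176,939,[4,6,0,171,2]),(172,526,[4,7,0,166,2])],[(183,18,[3]),(177,1039,[4,1,4,171,2]),(177,1092,[4,2,4,171,2]),(177,1119,[4,3,4,163,2]),(171,0,[1]),(184,0,[0]),(177,902,[4,4,6,171,1]),(173,448,[3])],[(178,1166,[4,0,2,166,2]),(178,1053,[4,2,1,172,1]),(172,0,[1]),(178,1343,[4,2,3,165,3]),(185,0,[0]),(178,968,[4,6,5,169,3]),(174,492,[4,6,2,167,2]),(182,538,[3])],[(173,15,[4,0,4,166,2]),(179,1040,[4,1,4,172,2]),(185,78,[3]),(179,1140,[4,4,3,165,3]),(172,0,[1]),(186,0,[0]),(175,485,[4,6,0,168,2]),(183,529,[3])],[(186,22,[3]),(180,1044,[4,1,5,173,2]),(180,1104,[4,2,5,173,2]),(180,1126,[4,3,5,173,2]),(180,927,[4,5,4,166,3]),(173,0,[1]),(180,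1279,[4,5,6,168,3]),(184,473,[4,5,7,173,1])],[(181,1167,[4,0,2,168,2]),(181,1054,[4,2,1,175,1]),(175,75,[4,2,4,167,2]),(187,0,[0]),(174,0,[1]),(181,1267,[4,4,5,169,3]),(185,495,[3]),(181,977,[4,6,7,181,5])],[(182,1168,[4,0,2,171,2]),(182,1055,[4,2,1,176,1]),(176,0,[1]),(182,1344,[4,2,3,170,3]),(188,0,[0]),(182,1002,[4,7,5,178,1]),(182,952,[4,6,2,176,2]),(178,537,[4,7,2,172,2])],[(177,17,[4,0,4,171,2]),(183,1041,[4,1,4,176,2]),(188,80,[3]),(183,1141,[4,4,3,170,3]),(176,0,[1]),(189,0,[0]),(183,940,[4,6,0,177,2]),(179,528,[4,7,0,173,2])],[(189,24,[3]),(184,1045,[4,1,5,177,2]),(184,1105,[4,2,5,177,2]),(184,1127,[4,3,5,177,2]),(184,928,[4,5,4,171,3]),(177,0,[1]),(190,0,[0]),(180,474,[3])],[(185,1169,[4,0,2,173,2]),(185,1056,[4,2,1,179,1])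,(179,77,[4,2,4,172,2]),(191,0,[0]),(178,0,[1]),(192,0,[0]),(181,494,[4,6,2,175,2]),(188,540,[3])],[(180,21,[4,0,5,173,2]),(186,1046,[4,1,5,179,2]),(192,84,[3]),(186,1151,[4,5,3,179,1]),(186,1020,[4,0,4,180,1]),(179,0,[1]),(186,1280,[4,5,6,175,3]),(189,531,[3])],[(187,1175,[4,0,3,181,2]),(193,0,[0]),(187,1224,[4,2,3,175,2]),(181,0,[1]),(187,1364,[4,3,4,174,3]),(187,1278,[4,5,3,181,2]),(191,499,[3]),(187,978,[4,6,7,187,5])],[(188,1170,[4,0,2,177,2]),(188,1057,[4,2,1,183,1]),(183,79,[4,2,4,176,2]),(194,0,[0]),(182,0,[1]),(195,0,[0]),(188,953,[4,6,2,183,2]),(185,539,[4,7,2,179,2])],[(184,23,[4,0,5,177,2]),(189,1047,[4,1,5,183,2]),(195,86,[3]),(189,1152,[4,5,3,183,1]),(189,1021,[4,0,4,184,1]),(183,0,[1]),(196,0,[0]),(186,530,[4,7,0,180,2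])],[(196,30,[3]),(190,1049,[4,1,6,184,2]),(190,1108,[4,2,6,184,2]),(190,1129,[4,3,6,184,2]),(190,964,[4,6,4,184,1]),(190,933,[4,5,6,177,2]),(184,0,[1]),(190,1294,[4,6,7,180,3])],[(191,1176,[4,0,3,185,2]),(197,0,[0]),(191,1225,[4,2,3,179,2]),(185,0,[1]),(191,1365,[4,3,4,178,3]),(198,0,[0]),(187,498,[4,6,3,181,2]),(194,549,[3])],[(192,1171,[4,0,2,180,2]),(192,1058,[4,2,1,186,1]),(186,83,[4,2,5,179,2]),(198,107,[3]),(192,1093,[4,2,4,186,1]),(185,0,[1]),(192,1281,[4,5,6,181,3]),(195,542,[3])],[(193,1191,[4,1,0,187,1]),(187,0,[1]),(193,1331,[4,1,2,187,1]),(193,1109,[4,3,1,181,2]),(193,1369,[4,4,1,187,2]),(193,1293,[4,6,5,193,5]),(197,617,[4,1,6,187,1]),(193,990,[4,7,1,187,2])],[(194,1177,[4,0,3,188,2]),(199,0,[0]),(194,1226,[4,2,3,183,2]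),(188,0,[1]),(194,1366,[4,3,4,182,3]),(200,0,[0]),(194,960,[4,6,3,188,2]),(191,548,[4,7,3,185,2])],[(195,1172,[4,0,2,184,2]),(195,1059,[4,2,1,189,1]),(189,85,[4,2,5,183,2]),(200,109,[3]),(195,1094,[4,2,4,189,1]),(188,0,[1]),(201,0,[0]),(192,541,[4,7,2,186,2])],[(190,29,[4,0,6,184,2]),(196,1050,[4,1,6,189,2]),(201,92,[3]),(196,1156,[4,6,3,189,1]),(196,1022,[4,0,4,190,1]),(196,969,[4,6,5,183,3]),(189,0,[1]),(196,1295,[4,6,7,186,3])],[(197,1192,[4,1,0,191,1]),(191,0,[1]),(197,1332,[4,1,2,191,1]),(197,1110,[4,3,1,185,2]),(197,1370,[4,4,1,191,2]),(202,0,[0]),(193,618,[3]),(199,626,[4,1,7,191,1])],[(198,1178,[4,0,3,192,2]),(202,57,[3]),(198,1227,[4,2,3,186,2]),(192,106,[4,3,5,185,2]),(203,0,[0]),(191,0,[1]),(198,1282,[4,5,6,187,3]),(200,5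51,[3])],[(199,1193,[4,1,0,194,1]),(194,0,[1]),(199,1333,[4,1,2,194,1]),(199,1111,[4,3,1,188,2]),(199,1371,[4,4,1,194,2]),(204,0,[0]),(199,1003,[4,7,6,193,3]),(197,627,[3])],[(200,1179,[4,0,3,195,2]),(204,59,[3]),(200,1228,[4,2,3,189,2]),(195,108,[4,3,5,188,2]),(205,0,[0]),(194,0,[1]),(206,0,[0]),(198,550,[4,7,3,192,2])],[(201,1173,[4,0,2,190,2]),(201,1060,[4,2,1,196,1]),(196,91,[4,2,6,189,2]),(206,115,[3]),(201,1095,[4,2,4,196,1]),(201,970,[4,6,5,188,3]),(195,0,[1]),(201,1296,[4,6,7,192,3])],[(202,1194,[4,1,0,198,1]),(198,56,[4,1,5,191,2]),(202,1334,[4,1,2,198,1]),(202,1112,[4,3,1,192,2]),(207,0,[0]),(197,0,[1]),(202,1289,[4,6,1,198,2]),(204,628,[4,1,7,198,1])],[(203,1181,[4,0,4,198,2]),(207,131,[4,4,1,198,1]),(203,1230,[4,2,4,198,2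]),(203,1120,[4,3,4,192,2]),(198,0,[1]),(203,1378,[4,4,5,191,3]),(203,1291,[4,6,4,198,2]),(205,556,[3])],[(204,1195,[4,1,0,200,1]),(200,58,[4,1,5,194,2]),(204,1335,[4,1,2,200,1]),(204,1113,[4,3,1,195,2]),(208,0,[0]),(199,0,[1]),(209,0,[0]),(202,629,[3])],[(205,1182,[4,0,4,200,2]),(208,133,[4,4,1,200,1]),(205,1231,[4,2,4,200,2]),(205,1121,[4,3,4,195,2]),(200,0,[1]),(205,1379,[4,4,5,194,3]),(210,0,[0]),(203,555,[4,7,4,198,2])],[(206,1180,[4,0,3,201,2]),(209,63,[3]),(206,1229,[4,2,3,196,2]),(201,114,[4,3,6,195,2]),(210,140,[3]),(206,971,[4,6,5,194,3]),(200,0,[1]),(206,1297,[4,6,7,198,3])],[(207,1196,[4,1,0,203,1]),(203,132,[3]),(207,1336,[4,1,2,203,1]),(211,0,[0]),(202,0,[1]),(207,1380,[4,4,5,197,3]),(207,1292,[4,6,4,202,2]),(208,630,[4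,1,7,203,1])],[(208,1197,[4,1,0,205,1]),(205,134,[3]),(208,1337,[4,1,2,205,1]),(212,0,[0]),(204,0,[1]),(208,1381,[4,4,5,199,3]),(213,0,[0]),(207,631,[3])],[(209,1198,[4,1,0,206,1]),(206,62,[4,1,6,200,2]),(209,1338,[4,1,2,206,1]),(209,1114,[4,3,1,201,2]),(213,142,[3]),(209,1048,[4,1,5,206,1]),(204,0,[1]),(209,1298,[4,6,7,202,3])],[(210,1183,[4,0,4,206,2]),(213,191,[4,6,1,205,1]),(210,1232,[4,2,4,206,2]),(210,1122,[4,3,4,201,2]),(206,139,[4,4,6,200,2]),(214,0,[0]),(205,0,[1]),(210,1299,[4,6,7,203,3])],[(211,1243,[4,3,0,207,1]),(211,1208,[4,1,3,203,2]),(215,0,[0]),(207,0,[1]),(211,1123,[4,3,4,202,3]),(211,1385,[4,5,3,207,2]),(211,1312,[4,7,6,211,5]),(212,668,[4,3,7,207,1])],[(212,1244,[4,3,0,208,1]),(212,1209,[4,1,3,205,2]),(216,0,[0]),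(208,0,[1]),(212,1124,[4,3,4,204,3]),(212,1386,[4,5,3,208,2]),(217,0,[0]),(211,669,[3])],[(213,1199,[4,1,0,210,1]),(210,192,[3]),(213,1339,[4,1,2,210,1]),(217,117,[3]),(209,141,[4,4,6,204,2]),(218,0,[0]),(208,0,[1]),(213,1300,[4,6,7,207,3])],[(214,1184,[4,0,5,210,2]),(218,266,[3]),(214,1233,[4,2,5,210,2]),(214,1128,[4,3,5,210,2]),(214,1144,[4,4,5,206,2]),(210,0,[1]),(214,1388,[4,5,6,205,3]),(214,1309,[4,7,5,210,2])],[(219,0,[0]),(215,1217,[4,2,1,211,1]),(211,0,[1]),(215,1345,[4,2,3,207,3]),(215,1136,[4,4,2,211,2]),(215,1405,[4,7,5,215,3]),(215,1354,[4,2,6,211,1]),(216,742,[3])],[(220,0,[0]),(216,1218,[4,2,1,212,1]),(212,0,[1]),(216,1346,[4,2,3,208,3]),(216,1137,[4,4,2,212,2]),(216,1397,[4,6,5,216,5]),(221,0,[0]),(215,741,[4,7,2,211,2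])],[(217,1245,[4,3,0,213,1]),(217,1210,[4,1,3,210,2]),(221,94,[3]),(213,116,[4,3,6,208,2]),(217,1125,[4,3,4,209,3]),(222,0,[0]),(212,0,[1]),(217,1308,[4,7,3,213,2])],[(218,1200,[4,1,0,214,1]),(214,265,[4,1,5,210,2]),(218,1340,[4,1,2,214,1]),(222,166,[4,5,3,213,1]),(218,1145,[4,4,5,209,2]),(213,0,[1]),(218,1389,[4,5,6,208,3]),(218,1310,[4,7,5,213,2])],[(215,0,[1]),(219,1315,[4,0,1,215,1]),(219,1325,[4,0,2,211,3]),(219,1359,[4,3,0,215,2]),(219,1158,[4,7,4,219,3]),(219,1407,[4,0,5,215,1]),(219,1391,[4,6,0,215,2]),(220,768,[4,0,7,215,1])],[(216,0,[1]),(220,1316,[4,0,1,216,1]),(220,1326,[4,0,2,212,3]),(220,1360,[4,3,0,216,2]),(220,1157,[4,6,4,220,3]),(220,1408,[4,0,5,216,1]),(223,0,[0]),(219,769,[3])],[(223,32,[3]),(221,1219,[4,2,1,217,1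]),(217,93,[4,2,6,212,2]),(221,1347,[4,2,3,213,3]),(221,1138,[4,4,2,217,2]),(224,0,[0]),(216,0,[1]),(221,1356,[4,2,7,217,1])],[(222,1246,[4,3,0,218,1]),(222,1211,[4,1,3,214,2]),(224,162,[4,5,2,217,1]),(218,167,[3]),(225,0,[0]),(217,0,[1]),(222,1390,[4,5,6,212,3]),(222,1311,[4,7,5,217,2])],[(221,31,[4,0,6,216,2]),(223,1317,[4,0,1,221,1]),(223,1327,[4,0,2,217,3]),(223,1361,[4,3,0,221,2]),(223,1155,[4,5,4,223,5]),(226,0,[0]),(220,0,[1]),(223,1398,[4,6,7,219,3])],[(226,158,[4,5,0,221,1]),(224,1220,[4,2,1,222,1]),(222,163,[3]),(224,1348,[4,2,3,218,3]),(227,0,[0]),(221,0,[1]),(224,1393,[4,6,2,222,2]),(224,1357,[4,2,7,222,1])],[(225,1261,[4,4,0,222,1]),(225,1212,[4,1,4,222,2]),(227,274,[3]),(225,1252,[4,3,4,218,2]),(222,0,[1]),(225,1146,[4,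4,5,217,3]),(225,1395,[4,6,4,222,2]),(225,1382,[4,4,7,222,1])],[(224,159,[3]),(226,1318,[4,0,1,224,1]),(226,1328,[4,0,2,222,3]),(226,1362,[4,3,0,224,2]),(228,0,[0]),(223,0,[1]),(226,1409,[4,0,6,224,1]),(226,1399,[4,7,0,224,2])],[(228,248,[3]),(227,1221,[4,2,1,225,1]),(225,273,[4,2,4,222,2]),(229,0,[0]),(224,0,[1]),(227,1147,[4,4,5,221,3]),(227,1396,[4,6,4,224,2]),(227,1383,[4,4,7,224,1])],[(227,247,[4,0,4,224,2]),(228,1319,[4,0,1,227,1]),(228,1329,[4,0,2,225,3]),(230,0,[0]),(226,0,[1]),(228,1150,[4,5,0,227,2]),(228,1410,[4,0,6,227,1]),(228,1400,[4,7,0,227,2])],[(230,290,[4,3,0,227,1]),(231,0,[0]),(229,1349,[4,2,3,225,2]),(227,0,[1]),(229,1367,[4,3,4,224,3]),(229,1153,[4,5,3,227,2]),(229,1418,[4,3,6,227,1]),(229,1402,[4,7,3,227,2])],[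(229,291,[3]),(232,0,[0]),(233,0,[0]),(228,0,[1]),(230,1368,[4,3,4,226,3]),(230,1154,[4,5,3,228,2]),(230,1419,[4,3,6,228,1]),(230,1403,[4,7,3,228,2])],[(232,350,[3]),(229,0,[1]),(231,1412,[4,1,2,229,1]),(231,1248,[4,3,1,227,2]),(231,1372,[4,4,1,229,2]),(231,1213,[4,1,5,229,1]),(231,1426,[4,6,1,229,2]),(231,1413,[4,1,7,229,1])],[(231,349,[4,0,1,229,2]),(230,0,[1]),(234,0,[0]),(232,1330,[4,0,3,231,1]),(232,1373,[4,4,1,230,2]),(232,1214,[4,1,5,230,1]),(232,1427,[4,6,1,230,2]),(232,1414,[4,1,7,230,1])],[(233,1406,[4,0,2,229,2]),(234,53,[3]),(230,0,[1]),(233,1350,[4,2,3,228,3]),(233,1375,[4,4,2,230,2]),(233,1234,[4,2,5,230,1]),(233,1428,[4,6,2,230,2]),(233,1415,[4,2,7,230,1])],[(234,1411,[4,1,0,233,1]),(233,52,[4,1,2,230,2]),(232,0,[1]),(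235,0,[0]),(234,1376,[4,4,2,232,2]),(234,1235,[4,2,5,232,1]),(234,1429,[4,6,2,232,2]),(234,1416,[4,2,7,232,1])],[(235,1417,[4,3,0,234,1]),(235,1363,[4,3,1,233,3]),(235,1351,[4,2,3,232,2]),(234,0,[1]),(236,0,[0]),(235,1253,[4,3,5,234,1]),(235,1430,[4,6,3,234,2]),(235,1420,[4,3,7,234,1])],[(236,1421,[4,4,0,235,1]),(236,1374,[4,4,1,235,1]),(236,1352,[4,2,4,235,2]),(236,1377,[4,4,3,234,3]),(235,0,[1]),(237,0,[0]),(236,1431,[4,6,4,235,2]),(236,1422,[4,4,7,235,1])],[(237,1423,[4,5,0,236,1]),(237,1384,[4,5,1,236,1]),(237,1353,[4,2,5,236,2]),(237,1387,[4,5,3,236,1]),(237,1268,[4,4,5,235,2]),(236,0,[1]),(238,0,[0]),(237,1424,[4,5,7,236,1])],[(238,1425,[4,6,0,237,1]),(238,1392,[4,6,1,237,1]),(238,1355,[4,2,6,237,2]),(238,1394,[4,6,3,237,1]),(238,1269,[4,4,6,237,2]),(238,1432,[4,6,5,236,3]),(237,0,[1]),(239,0,[0])],[(239,1434,[4,7,0,238,1]),(239,1401,[4,7,1,238,1]),(239,1358,[4,2,7,238,2]),(239,1404,[4,7,3,238,1]),(239,1270,[4,4,7,238,2]),(239,1435,[4,7,5,238,1]),(239,1433,[4,6,7,237,2]),(238,0,[1])]]⟩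

/-- the levels of type E8 -/
def levE8 : ℕ → Level := fun k => [levE8_0,levE8_1,levE8_2,levE8_3,levE8_4,levE8_5,levE8_6,levE8_7].getD k ⟨0, [], []⟩

theorem cartanOK_E8 : cartanOK CoxeterMatrix.E₈ cartanE8 = true := by decide +kernel

theorem levOK_E8_0 : LevOK CoxeterMatrix.E₈ cartanE8 levE8 0 :=
  ⟨rfl, by decide +kernel, by decide +kernel⟩

theorem levOK_E8_1 : LevOK CoxeterMatrix.E₈ cartanE8 levE8 1 :=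
  ⟨rfl, by decide +kernel, by decide +kernel⟩

theorem levOK_E8_2 : LevOK CoxeterMatrix.E₈ cartanE8 levE8 2 :=
  ⟨rfl, by decide +kernel, by decide +kernel⟩

theorem levOK_E8_3 : LevOK CoxeterMatrix.E₈ cartanE8 levE8 3 :=
  ⟨rfl, by decide +kernel, by decide +kernel⟩

theorem levOK_E8_4 : LevOK CoxeterMatrix.E₈ cartanE8 levE8 4 :=
  ⟨rfl, by decide +kernel, by decide +kernel⟩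

theorem levOK_E8_5 : LevOK CoxeterMatrix.E₈ cartanE8 levE8 5 :=
  ⟨rfl, by decide +kernel, by decide +kernel⟩

theorem levOK_E8_6 : LevOK CoxeterMatrix.E₈ cartanE8 levE8 6 :=
  ⟨rfl, by decide +kernel, by decide +kernel⟩

theorem levOK_E8_7 : LevOK CoxeterMatrix.E₈ cartanE8 levE8 7 :=
  ⟨rfl, by decide +kernel, by decide +kernel⟩

theorem levOK_E8 : ∀ k, k < 8 → LevOK CoxeterMatrix.E₈ cartanE8 levE8 k := by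
  intro k hk
  interval_cases k
  · exact levOK_E8_0
  · exact levOK_E8_1
  · exact levOK_E8_2
  · exact levOK_E8_3
  · exact levOK_E8_4
  · exact levOK_E8_5
  · exact levOK_E8_6
  · exact levOK_E8_7

theorem card_E8 : Nat.card CoxeterMatrix.E₈.Group = 696729600 := by
  rw [card_group CoxeterMatrix.E₈ cartanE8 levE8 cartanOK_E8 levOK_E8]
  decide +kernel

end Cfsg.Agent.Helper40.TCData
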