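import Mathlib
import Cfsg.Agent.Helper40.CoxTC

set_option autoImplicit false
set_option maxRecDepth 100000

namespace Cfsg.Agent.Helper40.TCData

open Cfsg.Agent.Helper40.TC

/-- Cartan matrix rows, type F4 -/
def cartanF4 : List (List ℤ) := [[2,-1,0,0],[-1,2,-2,0],[0,-1,2,-1],[0,0,-1,2]]

/-- coset table, type F4, level 0 (2 cosets) -/
def levF4_0 : Level := ⟨0, [[],[0]],
  [[(1,0,[0])],[(0,0,[1])]]⟩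

/-- coset table, type F4, level 1 (3 cosets) -/
def levF4_1 : Level := ⟨1, [[],[1],[1,0]],
  [[(0,0,[2]),(1,0,[0])],[(2,0,[0]),(0,0,[1])],[(1,0,[1]),(2,1,[4,0,1,0,3])]]⟩

/-- coset table, type F4, level 2 (8 cosets) -/
def levF4_2 : Level := ⟨2, [[],[2],[2,1],[2,1,0],[2,1,2],[2,1,0,2],[2,1,0,2,1],[2,1,0,2,1,2]],
  [[(0,0,[2]),(0,0,[2]),(1,0,[0])],[(1,1,[4,0,2,0,2]),(2,0,[0]),(0,0,[1])],[(3,0,[0]),(1,0,[1]),(4,0,[0])],[(2,0,[1]),(3,4,[4,1,0,1,2]),(5,0,[0])],[(5,3,[3]),(4,5,[4,1,2,0,4]),(2,0,[1])],[(4,2,[4,0,2,2,2]),(6,0,[0]),(3,0,[1])],[(6,7,[4,0,1,4,2]),(5,0,[1]),(7,0,[0])],[(7,8,[4,0,2,6,2]),(7,6,[4,1,2,3,4]),(6,0,[1])]]⟩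

/-- coset table, type F4, level 3 (24 cosets) -/
def levF4_3 : Level := ⟨3, [[],[3],[3,2],[3,2,1],[3,2,1,0],[3,2,1,2],[3,2,1,0,2],[3,2,1,2,3],[3,2,1,0,2,1],[3,2,1,0,2,3],[3,2,1,0,2,1,2],[3,2,1,0,2,1,3],[3,2,1,0,2,1,2,3],[3,2,1,0,2,1,3,2],[3,2,1,0,2,1,2,3,2],[3,2,1,0,2,1,3,2,1],[3,2,1,0,2,1,2,3,2,1],[3,2,1,0,2,1,3,2,1,0],[3,2,1,0,2,1,2,3,2,1,0],[3,2,1,0,2,1,2,3,2,1,2],[3,2,1,0,2,1,2,3,2,1,0,2],[3,2,1,0,2,1,2,3,2,1,0,2,1],[3,2,1,0,2,1,2,3,2,1,0,2,1,2],[3,2,1,0,2,1,2,3,2,1,0,2,1,2,3]],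
  [[(0,0,[2]),(0,0,[2]),(0,0,[2]),(1,0,[0])],[(1,5,[4,0,3,0,2]),(1,8,[4,1,3,0,2]),(2,0,[0]),(0,0,[1])],[(2,11,[4,2,0,1,1]),(3,0,[0]),(1,0,[1]),(2,13,[4,2,3,0,3])],[(4,0,[0]),(2,0,[1]),(5,0,[0]),(3,16,[4,3,1,2,2])],[(3,0,[1]),(4,21,[4,0,1,2,3]),(6,0,[0]),(4,27,[4,0,3,3,1])],[(6,2,[3]),(5,12,[4,2,1,1,3]),(3,0,[1]),(7,0,[0])],[(5,1,[4,0,2,3,2]),(8,0,[0]),(4,0,[1]),(9,0,[0])],[(9,7,[3]),(7,17,[4,3,1,5,1]),(7,20,[4,3,2,3,3]),(5,0,[1])],[(8,22,[4,0,1,5,2]),(6,0,[1]),(10,0,[0]),(11,0,[0])],[(7,6,[4,0,3,5,2]),(11,10,[3]),(9,24,[4,0,2,7,1]),(6,0,[1])],[(10,25,[4,0,2,8,2]),(10,34,[4,1,2,4,4]),(8,0,[1]),(12,0,[0])],[(11,23,[4,0,1,7,2]),(9,9,[4,1,3,6,2]),(13,0,[0]),(8,0,[1])],[(12,28,[4,0,3,10,2]),(12,37,[4,1,3,10,2]),(14,0,[0]),(10,0,[1])],[(13,26,[4,0,2,11,2]),(15,0,[0]),(11,0,[1])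,(14,15,[3])],[(14,29,[4,0,3,13,2]),(16,0,[0]),(12,0,[1]),(13,14,[4,2,3,8,3])],[(17,0,[0]),(13,0,[1]),(15,35,[4,1,2,9,3]),(16,19,[3])],[(18,0,[0]),(14,0,[1]),(19,0,[0]),(15,18,[4,3,1,13,2])],[(15,0,[1]),(17,32,[4,1,0,13,2]),(17,39,[4,2,0,15,2]),(18,30,[4,0,3,15,1])],[(16,0,[1]),(18,33,[4,1,0,14,2]),(20,0,[0]),(17,31,[3])],[(20,4,[3]),(19,40,[4,2,1,12,3]),(16,0,[1]),(19,41,[4,2,3,15,3])],[(19,3,[4,0,2,16,2]),(21,0,[0]),(18,0,[1]),(20,42,[4,2,3,17,3])],[(21,45,[4,0,1,19,2]),(20,0,[1]),(22,0,[0]),(21,43,[4,3,1,20,2])],[(22,46,[4,0,2,21,2]),(22,36,[4,1,2,18,4]),(21,0,[1]),(23,0,[0])],[(23,47,[4,0,3,22,2]),(23,38,[4,1,3,22,2]),(23,44,[4,3,2,21,3]),(22,0,[1])]]⟩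

/-- the levels of type F4 -/
def levF4 : ℕ → Level := fun k => [levF4_0,levF4_1,levF4_2,levF4_3].getD k ⟨0, [], []⟩

theorem cartanOK_F4 : cartanOK CoxeterMatrix.F₄ cartanF4 = true := by decide +kernel

theorem levOK_F4_0 : LevOK CoxeterMatrix.F₄ cartanF4 levF4 0 :=
  ⟨rfl, by decide +kernel, by decide +kernel⟩

theorem levOK_F4_1 : LevOK CoxeterMatrix.F₄ cartanF4 levF4 1 :=
  ⟨rfl, by decide +kernel, by decide +kernel⟩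

theorem levOK_F4_2 : LevOK CoxeterMatrix.F₄ cartanF4 levF4 2 :=
  ⟨rfl, by decide +kernel, by decide +kernel⟩

theorem levOK_F4_3 : LevOK CoxeterMatrix.F₄ cartanF4 levF4 3 :=
  ⟨rfl, by decide +kernel, by decide +kernel⟩

theorem levOK_F4 : ∀ k, k < 4 → LevOK CoxeterMatrix.F₄ cartanF4 levF4 k := by
  intro k hk
  interval_cases k
  · exact levOK_F4_0
  · exact levOK_F4_1
  · exact levOK_F4_2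
  · exact levOK_F4_3

theorem card_F4 : Nat.card CoxeterMatrix.F₄.Group = 1152 := by
  rw [card_group CoxeterMatrix.F₄ cartanF4 levF4 cartanOK_F4 levOK_F4]
  decide +kernel

end Cfsg.Agent.Helper40.TCData
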