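import Mathlib
import Cfsg.Agent.Helper40.CoxTC

set_option autoImplicit false
set_option maxRecDepth 100000

namespace Cfsg.Agent.Helper40.TCData

open Cfsg.Agent.Helper40.TC

/-- Cartan matrix rows, type G2 -/
def cartanG2 : List (List ℤ) := [[2,-3],[-1,2]]

/-- coset table, type G2, level 0 (2 cosets) -/
def levG2_0 : Level := ⟨0, [[],[0]],
  [[(1,0,[0])],[(0,0,[1])]]⟩

/-- coset table, type G2, level 1 (6 cosets) -/
def levG2_1 : Level := ⟨1, [[],[1],[1,0],[1,0,1],[1,0,1,0],[1,0,1,0,1]],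
  [[(0,0,[2]),(1,0,[0])],[(2,0,[0]),(0,0,[1])],[(1,0,[1]),(3,0,[0])],[(4,0,[0]),(2,0,[1])],[(3,0,[1]),(5,0,[0])],[(5,1,[4,0,1,0,6]),(4,0,[1])]]⟩

/-- the levels of type G2 -/
def levG2 : ℕ → Level := fun k => [levG2_0,levG2_1].getD k ⟨0, [], []⟩

theorem cartanOK_G2 : cartanOK CoxeterMatrix.G₂ cartanG2 = true := by decide +kernel

theorem levOK_G2_0 : LevOK CoxeterMatrix.G₂ cartanG2 levG2 0 :=
  ⟨rfl, by decide +kernel, by decide +kernel⟩

theorem levOK_G2_1 : LevOK CoxeterMatrix.G₂ cartanG2 levG2 1 :=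
  ⟨rfl, by decide +kernel, by decide +kernel⟩

theorem levOK_G2 : ∀ k, k < 2 → LevOK CoxeterMatrix.G₂ cartanG2 levG2 k := by
  intro k hk
  interval_cases k
  · exact levOK_G2_0
  · exact levOK_G2_1

theorem card_G2 : Nat.card CoxeterMatrix.G₂.Group = 12 := by
  rw [card_group CoxeterMatrix.G₂ cartanG2 levG2 cartanOK_G2 levOK_G2]
  decide +kernel

end Cfsg.Agent.Helper40.TCData
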